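import Mathlib

/-!
# Automorphisms inverting more than three quarters of a finite group
-/

set_option autoImplicit false

open Subgroup

namespace Cfsg.Agent.H838.KW

/-- A subgroup with more than half of the elements is everything. -/
theorem eq_top_of_lt {Q : Type*} [Group Q] [Finite Q] {A : Subgroup Q} (h : Nat.card Q < 2 * Nat.card A) : A = ⊤ := by
  have h1 := A.card_mul_index
  have h2 : A.index ≠ 0 := index_ne_zero_of_finite
  rw [← index_eq_one]
  by_contra h3
  have h4 : 2 ≤ A.index := by omega
  nlinarith [Nat.mul_le_mul_left (Nat.card A) h4]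

/-- If a homomorphism inverts more than three quarters of the elements of `Q`, then `Q` is abelian. -/
theorem comm_of_inverts {Q : Type*} [Group Q] [Finite Q] (α : Q →* Q)
    (h : 3 * Nat.card Q < 4 * {s : Q | α s = s⁻¹}.ncard) (a b : Q) : a * b = b * a := by
  classical
  set T : Set Q := {s : Q | α s = s⁻¹} with hT
  -- the elements of `T` are central
  have hc : ∀ s ∈ T, s ∈ center Q := by
    intro s hs
    set U : Set Q := T ∩ (fun t => s * t) ⁻¹' T with hU
    have h1 : ((fun t => s * t) ⁻¹' T).ncard = T.ncard := by
      refine Set.ncard_preimage_of_injective_subset_range (mul_right_injective s) ?_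
      intro t _
      exact ⟨s⁻¹ * t, by simp⟩
    have h2 : (T ∪ (fun t => s * t) ⁻¹' T).ncard + U.ncard = T.ncard + ((fun t => s * t) ⁻¹' T).ncard :=
      Set.ncard_union_add_ncard_inter _ _ (Set.toFinite _) (Set.toFinite _)
    have h3 : (T ∪ (fun t => s * t) ⁻¹' T).ncard ≤ Nat.card Q := by
      rw [← Set.ncard_univ]
      exact Set.ncard_le_ncard (Set.subset_univ _) (Set.toFinite _)
    have h4 : U ⊆ (centralizer ({s} : Set Q) : Set Q) := by
      rintro t ⟨ht, hst⟩
      rw [SetLike.mem_coe, mem_centralizer_iff]
      intro z hz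
      rw [Set.mem_singleton_iff] at hz
      rw [hz]
      have h5 : α (s * t) = (s * t)⁻¹ := hst
      rw [map_mul, hs, ht, mul_inv_rev] at h5
      have h6 := congrArg (·⁻¹) h5
      simp only [mul_inv_rev, inv_inv] at h6
      exact h6.symm
    have h5 : U.ncard ≤ Nat.card (centralizer ({s} : Set Q)) := by
      have := Set.ncard_le_ncard h4 (Set.toFinite _)
      exact this
    have h6 : centralizer ({s} : Set Q) = ⊤ := by
      refine eq_top_of_lt ?_
      omega
    rw [mem_center_iff]
    intro g
    have h7 : g ∈ centralizer ({s} : Set Q) := by rw [h6]; trivial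
    rw [mem_centralizer_iff] at h7
    exact (h7 s rfl).symm
  have h1 : T.ncard ≤ Nat.card (center Q) := by
    have := Set.ncard_le_ncard (s := T) (t := (center Q : Set Q)) hc (Set.toFinite _)
    exact this
  have h2 : center Q = ⊤ := eq_top_of_lt (by omega)
  have h3 : a ∈ center Q := by rw [h2]; trivial
  exact ((mem_center_iff.1 h3) b).symm

end Cfsg.Agent.H838.KW
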