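import Cfsg.Agent.H838.KW.TwoDef
import Cfsg.Agent.H838.KW.Inv

/-!
# The `GL_2` lemma for the blocks
-/

set_option autoImplicit false
set_option linter.unusedSectionVars false

open Subgroup Matrix

namespace Cfsg.Agent.H838.KW

open Cfsg.Agent.H146.KW

variable {E : Type*} [Field E]

/-! ### Two by two matrices -/

theorem sq_eq (x : Matrix (Fin 2) (Fin 2) E) : x * x = x.trace • x - x.det • (1 : Matrix (Fin 2) (Fin 2) E) := by
  ext i j
  fin_cases i <;> fin_cases j <;>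
    simp [Matrix.mul_apply, Fin.sum_univ_two, Matrix.trace_fin_two, Matrix.det_fin_two] <;> ring

/-- a nonscalar matrix with scalar square has trace zero -/
theorem trace_eq_zero {x : Matrix (Fin 2) (Fin 2) E} (hx : ¬ ∃ c : E, x = c • 1) {c : E} (h : x * x = c • 1) :
    x.trace = 0 := by
  by_contra ht
  apply hx
  refine ⟨x.trace⁻¹ * (c + x.det), ?_⟩
  have h1 := sq_eq x
  rw [h] at h1
  have h2 : x.trace • x = (c + x.det) • (1 : Matrix (Fin 2) (Fin 2) E) := by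
    rw [add_smul, h1]; abel
  rw [mul_smul, ← h2, smul_smul, inv_mul_cancel₀ ht, one_smul]

/-- a nilpotent matrix commuting with an invertible matrix of trace zero is zero, in odd characteristic -/
theorem eq_zero_of_comm {x n : Matrix (Fin 2) (Fin 2) E} (h2 : (2 : E) ≠ 0) (hx : x.trace = 0) (hd : x.det ≠ 0)
    (hn : n.trace = 0) (hnd : n.det = 0) (hc : x * n = n * x) : n = 0 := by
  rw [trace_fin_two] at hx hn
  rw [det_fin_two] at hd hnd
  have e01 := congrFun (congrFun hc 0) 1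
  have e10 := congrFun (congrFun hc 1) 0
  have e00 := congrFun (congrFun hc 0) 0
  simp only [Matrix.mul_apply, Fin.sum_univ_two] at e01 e10 e00
  set a := x 0 0
  set b := x 0 1
  set g := x 1 0
  set p := n 0 0
  set q := n 0 1
  set s := n 1 0
  have ha : x 1 1 = -a := by linear_combination hx
  have hp : n 1 1 = -p := by linear_combination hn
  rw [ha] at hd e01 e10
  rw [hp] at hnd e01 e10
  have f1 : a * q = b * p := by
    have : (2 : E) * (a * q - b * p) = 0 := by linear_combination e01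
    have := (mul_eq_zero.1 this).resolve_left h2
    linear_combination this
  have f2 : a * s = g * p := by
    have : (2 : E) * (a * s - g * p) = 0 := by linear_combination -e10
    have := (mul_eq_zero.1 this).resolve_left h2
    linear_combination this
  have f3 : b * s = g * q := by linear_combination e00
  have hc0 : a * a + b * g ≠ 0 := by
    intro h
    apply hd
    linear_combination -h
  have hp0 : p = 0 := by
    have h1 : (a * a + b * g) * (p * p) = 0 := by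
      linear_combination (-(a * a)) * hnd + (-(b * p)) * f2 + (-(a * s)) * f1 + 0 * f3
    have h3 := (mul_eq_zero.1 h1).resolve_left hc0
    exact mul_self_eq_zero.1 h3
  rw [hp0] at f1 f2 hnd
  have hqs : q * s = 0 := by linear_combination -hnd
  have hq0 : q = 0 := by
    rcases mul_eq_zero.1 hqs with h | h
    · exact h
    · rw [h, mul_zero] at f3
      have h5 : a * q = 0 := by rw [f1, mul_zero]
      by_contra hq
      have h6 : a = 0 := (mul_eq_zero.1 h5).resolve_right hq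
      have h7 : g = 0 := (mul_eq_zero.1 f3.symm).resolve_right hq
      apply hc0
      rw [h6, h7]; ring
  have hs0 : s = 0 := by
    rw [hq0, mul_zero] at f3
    have h5 : a * s = 0 := by rw [f2, mul_zero]
    by_contra hs
    have h6 : a = 0 := (mul_eq_zero.1 h5).resolve_right hs
    have h7 : b = 0 := (mul_eq_zero.1 f3).resolve_right hs
    apply hc0
    rw [h6, h7]; ring
  ext i j
  fin_cases i <;> fin_cases j
  · exact hp0
  · exact hq0
  · exact hs0
  · show n 1 1 = 0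
    rw [hp, hp0, neg_zero]

/-- a matrix with a vanishing power has trace and determinant zero -/
theorem trace_det_of_pow {n : Matrix (Fin 2) (Fin 2) E} {k : ℕ} (h : n ^ k = 0) : n.trace = 0 ∧ n.det = 0 := by
  have hk : k ≠ 0 := by
    rintro rfl
    rw [pow_zero] at h
    exact one_ne_zero h
  have hd : n.det = 0 := by
    have h1 : n.det ^ k = 0 := by
      rw [← det_pow, h, det_zero]
    exact (pow_eq_zero_iff hk).1 h1
  refine ⟨?_, hd⟩
  by_contra ht
  have h1 : ∀ j : ℕ, n ^ (j + 1) = n.trace ^ j • n := by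
    intro j
    induction j with
    | zero => simp
    | succ j ih =>
      rw [pow_succ, ih, smul_mul_assoc, sq_eq, hd, zero_smul, sub_zero, smul_smul, pow_succ]
  obtain ⟨j, rfl⟩ : ∃ j, k = j + 1 := ⟨k - 1, by omega⟩
  rw [h1] at h
  have h3 : n = 0 := (smul_eq_zero.1 h).resolve_left (pow_ne_zero _ ht)
  apply ht
  rw [h3, trace_zero]

/-- an `r`-element commuting with an invertible matrix of trace zero is trivial -/
theorem eq_one_of_comm {r : ℕ} [Fact r.Prime] [CharP E r] (hr2 : r ≠ 2) {x g : GL (Fin 2) E}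
    (hx : (x : Matrix (Fin 2) (Fin 2) E).trace = 0) {k : ℕ} (hg : g ^ r ^ k = 1) (hc : x * g = g * x) : g = 1 := by
  have h2 : (2 : E) ≠ 0 := by
    intro h
    have h3 : ((2 : ℕ) : E) = 0 := by exact_mod_cast h
    rw [CharP.cast_eq_zero_iff E r] at h3
    exact hr2 ((Nat.prime_dvd_prime_iff_eq Fact.out Nat.prime_two).1 h3)
  have h3 : ((g : Matrix (Fin 2) (Fin 2) E) - 1) ^ r ^ k = 0 := by
    rw [sub_pow_char_pow_of_commute _ _ (Commute.one_right _), one_pow]
    have h4 : ((g ^ r ^ k : GL (Fin 2) E) : Matrix (Fin 2) (Fin 2) E) = 1 := by rw [hg]; rfl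
    rw [Units.val_pow_eq_pow_val] at h4
    rw [h4, sub_self]
  obtain ⟨ht, hd⟩ := trace_det_of_pow h3
  have hdx : (x : Matrix (Fin 2) (Fin 2) E).det ≠ 0 := by
    have := x.det_ne_zero
    exact this
  have hc' : (x : Matrix (Fin 2) (Fin 2) E) * ((g : Matrix (Fin 2) (Fin 2) E) - 1) =
      ((g : Matrix (Fin 2) (Fin 2) E) - 1) * (x : Matrix (Fin 2) (Fin 2) E) := by
    have h5 : ((x * g : GL (Fin 2) E) : Matrix (Fin 2) (Fin 2) E) = ((g * x : GL (Fin 2) E) : Matrix (Fin 2) (Fin 2) E) := by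
      rw [hc]
    rw [Units.val_mul, Units.val_mul] at h5
    rw [mul_sub, sub_mul, h5, mul_one, one_mul]
  have h6 := eq_zero_of_comm h2 hx hdx ht hd hc'
  ext i j
  have h7 := congrFun (congrFun h6 i) j
  rw [Matrix.sub_apply, Matrix.zero_apply, sub_eq_zero] at h7
  rw [h7]
  rfl

/-! ### Counting in a Sylow `2`-subgroup -/

variable [Finite E] {r q : ℕ} [hr : Fact r.Prime] {Z : Subgroup (GL (Fin 2) E)}

theorem mem_slPart {x : GL (Fin 2) E} : x ∈ slPart Z ↔ x ∈ Z ∧ (x : Matrix (Fin 2) (Fin 2) E).det = 1 := by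
  unfold slPart
  rw [mem_inf, MonoidHom.mem_ker]
  constructor
  · rintro ⟨h1, h2⟩
    refine ⟨h1, ?_⟩
    have h3 := congrArg Units.val h2
    exact h3
  · rintro ⟨h1, h2⟩
    exact ⟨h1, Units.ext h2⟩

theorem TwoGp.odd (hZ : TwoGp r q Z) (hr2 : r ≠ 2) : Odd q := by
  obtain ⟨k, hk⟩ := hZ.pow
  rw [hk]
  exact Odd.pow (hr.1.odd_of_ne_two hr2)

/-- a power of two dividing `q (q ^ 2 - 1)`, `q` odd -/
theorem two_pow_le {q a : ℕ} (hq : Odd q) (hq1 : 1 < q) (h : 2 ^ a ∣ q * (q ^ 2 - 1)) : 2 ^ a ≤ 2 * (q + 1) := by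
  obtain ⟨m, rfl⟩ := hq
  have h1 : 2 ^ a ∣ (2 * m + 1) ^ 2 - 1 :=
    (Nat.Coprime.pow_left a (by rw [Nat.coprime_two_left]; exact ⟨m, rfl⟩)).dvd_of_dvd_mul_left h
  have h2 : (2 * m + 1) ^ 2 - 1 = 4 * (m * (m + 1)) := by
    have : (2 * m + 1) ^ 2 = 4 * (m * (m + 1)) + 1 := by ring
    omega
  rw [h2] at h1
  rcases Nat.even_or_odd m with hm | hm
  · have h3 : 2 ^ a ∣ 4 * m := by
      have h4 : 2 ^ a ∣ (m + 1) * (4 * m) := by
        have : (m + 1) * (4 * m) = 4 * (m * (m + 1)) := by ring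
        rwa [this]
      exact (Nat.Coprime.pow_left a (by rw [Nat.coprime_two_left]; exact hm.add_one)).dvd_of_dvd_mul_left h4
    have := Nat.le_of_dvd (by omega) h3
    omega
  · have h3 : 2 ^ a ∣ 4 * (m + 1) := by
      have h4 : 2 ^ a ∣ m * (4 * (m + 1)) := by
        have : m * (4 * (m + 1)) = 4 * (m * (m + 1)) := by ring
        rwa [this]
      exact (Nat.Coprime.pow_left a (by rw [Nat.coprime_two_left]; exact hm)).dvd_of_dvd_mul_left h4
    have := Nat.le_of_dvd (by omega) h3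
    omega

theorem mul_self_of_trace {x : GL (Fin 2) E} (hx : (x : Matrix (Fin 2) (Fin 2) E).trace = 0) :
    ((x * x : GL (Fin 2) E) : Matrix (Fin 2) (Fin 2) E) = -((x : Matrix (Fin 2) (Fin 2) E).det • (1 : Matrix (Fin 2) (Fin 2) E)) := by
  rw [Units.val_mul, sq_eq, hx, zero_smul, zero_sub]

/-- the determinant one part inside `Z` -/
def dOne (Z : Subgroup (GL (Fin 2) E)) : Subgroup Z := (slPart Z).subgroupOf Z

instance dOne_normal : (dOne Z).Normal := by
  constructor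
  intro x hx g
  unfold dOne at hx ⊢
  rw [mem_subgroupOf, mem_slPart] at hx ⊢
  refine ⟨(g * x * g⁻¹).2, ?_⟩
  have h1 : ((g * x * g⁻¹ : Z) : GL (Fin 2) E) = (g : GL (Fin 2) E) * (x : GL (Fin 2) E) * (g : GL (Fin 2) E)⁻¹ := rfl
  rw [h1, Units.val_mul, Units.val_mul, det_mul, det_mul, hx.2, mul_one, ← det_mul, ← Units.val_mul, mul_inv_cancel,
    Units.val_one, det_one]

theorem mem_dOne {x : Z} : x ∈ dOne Z ↔ ((x : GL (Fin 2) E) : Matrix (Fin 2) (Fin 2) E).det = 1 := by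
  unfold dOne
  rw [mem_subgroupOf, mem_slPart]
  exact ⟨fun h => h.2, fun h => ⟨x.2, h⟩⟩

theorem card_dOne : Nat.card (dOne Z) = Nat.card (slPart Z) :=
  Nat.card_congr (subgroupOfEquivOfLe (inf_le_left : slPart Z ≤ Z)).toEquiv

/-- the trace zero elements of fixed determinant in a Sylow `2`-subgroup of `Z` -/
def tz (Z : Subgroup (GL (Fin 2) E)) (P : Sylow 2 Z) (d : E) : Set Z :=
  {y | y ∈ P ∧ ((y : GL (Fin 2) E) : Matrix (Fin 2) (Fin 2) E).trace = 0 ∧
    ((y : GL (Fin 2) E) : Matrix (Fin 2) (Fin 2) E).det = d}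

theorem TwoGp.lt_of_sylow (hZ : TwoGp r q Z) (hr2 : r ≠ 2) (P : Sylow 2 Z) {x : Z} (hxP : x ∈ P)
    (hx : ((x : GL (Fin 2) E) : Matrix (Fin 2) (Fin 2) E).trace = 0) :
    (tz Z P ((x : GL (Fin 2) E) : Matrix (Fin 2) (Fin 2) E).det).ncard < 2 * q := by
  classical
  by_contra hcon
  push Not at hcon
  set d := ((x : GL (Fin 2) E) : Matrix (Fin 2) (Fin 2) E).det with hd
  set Q : Subgroup Z := (P : Subgroup Z) ⊓ dOne Z with hQ
  have hQp : IsPGroup 2 Q := P.isPGroup'.to_le inf_le_left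
  -- the order of `Q`
  obtain ⟨a, ha⟩ := IsPGroup.iff_card.1 hQp
  have hQle : Nat.card Q ≤ 2 * (q + 1) := by
    rw [ha]
    refine two_pow_le (hZ.odd hr2) (by have := hZ.lt; omega) ?_
    rw [← ha, ← hZ.card, ← card_dOne]
    exact card_dvd_of_le inf_le_right
  -- conjugation by `x`
  let α : Q →* Q :=
    { toFun := fun s => ⟨x⁻¹ * s * x, mem_inf.2 ⟨mul_mem (mul_mem (inv_mem hxP) (mem_inf.1 s.2).1) hxP, by
        have := dOne_normal.conj_mem (s : Z) (mem_inf.1 s.2).2 x⁻¹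
        rwa [inv_inv] at this⟩⟩
      map_one' := Subtype.ext (by simp)
      map_mul' := fun s t => Subtype.ext (by
        show x⁻¹ * ((s : Z) * t) * x = x⁻¹ * s * x * (x⁻¹ * t * x)
        group) }
  have hle : (tz Z P d).ncard ≤ {s : Q | α s = s⁻¹}.ncard := by
    have hmem : ∀ y ∈ tz Z P d, x⁻¹ * y ∈ Q := by
      rintro y ⟨hyP, hyt, hyd⟩
      refine mem_inf.2 ⟨mul_mem (inv_mem hxP) hyP, mem_dOne.2 ?_⟩
      have h1 : ((x⁻¹ * y : Z) : GL (Fin 2) E) = (x : GL (Fin 2) E)⁻¹ * (y : GL (Fin 2) E) := rfl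
      rw [h1, Units.val_mul, det_mul, hyd, hd, ← det_mul, ← Units.val_mul, inv_mul_cancel, Units.val_one, det_one]
    refine Set.ncard_le_ncard_of_injOn (fun y => if h : x⁻¹ * y ∈ Q then (⟨x⁻¹ * y, h⟩ : Q) else 1) ?_ ?_ (Set.toFinite _)
    · intro y hy
      simp only [dif_pos (hmem y hy)]
      show α ⟨x⁻¹ * y, hmem y hy⟩ = (⟨x⁻¹ * y, hmem y hy⟩ : Q)⁻¹
      obtain ⟨hyP, hyt, hyd⟩ := hy
      have h1 : x * x = y * y := by
        apply Subtype.ext
        apply Units.ext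
        have e1 : (((x * x : Z) : GL (Fin 2) E) : Matrix (Fin 2) (Fin 2) E) = -(d • (1 : Matrix (Fin 2) (Fin 2) E)) :=
          mul_self_of_trace hx
        have e2 : (((y * y : Z) : GL (Fin 2) E) : Matrix (Fin 2) (Fin 2) E) = -(d • (1 : Matrix (Fin 2) (Fin 2) E)) := by
          rw [← hyd]
          exact mul_self_of_trace hyt
        rw [e1, e2]
      have h2 : x * x * y = y * (x * x) := by rw [h1]; group
      apply Subtype.ext
      show x⁻¹ * (x⁻¹ * y) * x = (x⁻¹ * y)⁻¹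
      have h3 : x⁻¹ * (x⁻¹ * y) * x = (x * x)⁻¹ * y * x := by group
      have h4 : (x * x)⁻¹ * y = y * (x * x)⁻¹ := by
        rw [inv_mul_eq_iff_eq_mul, ← mul_assoc, h2]; group
      rw [h3, h4, h1]
      group
    · intro y hy z hz hyz
      simp only [dif_pos (hmem y hy), dif_pos (hmem z hz), Subtype.mk.injEq] at hyz
      exact mul_left_cancel hyz
  have hcomm := comm_of_inverts α (by have := hZ.lt; omega)
  -- but `Q` is not abelian
  obtain ⟨B, hB, hBp, b, hb, c, hc, hbc⟩ := hZ.nonab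
  have hB' : IsPGroup 2 (B.subgroupOf Z) := hBp.comap_of_injective Z.subtype Subtype.val_injective
  obtain ⟨R, hR⟩ := hB'.exists_le_sylow
  obtain ⟨g, hg⟩ := MulAction.exists_smul_eq Z R P
  have key : ∀ y (hy : y ∈ B), g * ⟨y, (mem_slPart.1 (hB hy)).1⟩ * g⁻¹ ∈ Q := by
    intro y hy
    refine mem_inf.2 ⟨?_, dOne_normal.conj_mem _ (mem_dOne.2 (mem_slPart.1 (hB hy)).2) g⟩
    rw [← hg, Sylow.coe_subgroup_smul]
    exact ⟨_, hR (show (⟨y, _⟩ : Z) ∈ B.subgroupOf Z from hy), rfl⟩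
  have h1 := hcomm ⟨_, key b hb⟩ ⟨_, key c hc⟩
  have h2 := congrArg (Subtype.val) h1
  apply hbc
  have h3 : g * ⟨b, (mem_slPart.1 (hB hb)).1⟩ * g⁻¹ * (g * ⟨c, (mem_slPart.1 (hB hc)).1⟩ * g⁻¹) =
    g * ⟨c, (mem_slPart.1 (hB hc)).1⟩ * g⁻¹ * (g * ⟨b, (mem_slPart.1 (hB hb)).1⟩ * g⁻¹) := h2
  have h4 : (⟨b, (mem_slPart.1 (hB hb)).1⟩ : Z) * ⟨c, (mem_slPart.1 (hB hc)).1⟩ =
      ⟨c, (mem_slPart.1 (hB hc)).1⟩ * ⟨b, (mem_slPart.1 (hB hb)).1⟩ := by
    have e1 : ∀ u v : Z, g⁻¹ * (g * u * g⁻¹ * (g * v * g⁻¹)) * g = u * v := fun u v => by group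
    rw [← e1, h3, e1]
  exact congrArg Subtype.val h4

/-! ### The sign -/

theorem even_ncard {α : Type*} [Finite α] (S : Set α) (f : α → α) (hf : ∀ a ∈ S, f a ∈ S) (h2 : ∀ a, f (f a) = a)
    (hne : ∀ a ∈ S, f a ≠ a) : 2 ∣ S.ncard := by
  classical
  let σ : Equiv.Perm S :=
    { toFun := fun a => ⟨f a, hf a a.2⟩
      invFun := fun a => ⟨f a, hf a a.2⟩
      left_inv := fun a => Subtype.ext (h2 a)
      right_inv := fun a => Subtype.ext (h2 a) }
  have hσ : σ ^ 2 = 1 := by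
    ext a
    show ((σ * σ) a : α) = a
    exact h2 a
  have : Fintype S := Fintype.ofFinite S
  have h3 := Equiv.Perm.two_dvd_card_support hσ
  have h4 : σ.support = Finset.univ := by
    ext a
    simp only [Equiv.Perm.mem_support, Finset.mem_univ, iff_true]
    intro h
    exact hne a a.2 (congrArg Subtype.val h)
  rw [h4, Finset.card_univ, ← Nat.card_eq_fintype_card] at h3
  exact h3

section Sign

variable [CharP E r]

theorem two_ne_zero_of_char (hr2 : r ≠ 2) : (2 : E) ≠ 0 := by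
  intro h
  have h3 : ((2 : ℕ) : E) = 0 := by exact_mod_cast h
  rw [CharP.cast_eq_zero_iff E r] at h3
  exact hr2 ((Nat.prime_dvd_prime_iff_eq hr.1 Nat.prime_two).1 h3)

/-- the element `-1` -/
def TwoGp.m (hZ : TwoGp r q Z) : Z := ⟨-1, hZ.neg⟩

theorem TwoGp.m_comm (hZ : TwoGp r q Z) (y : Z) : hZ.m * y = y * hZ.m := by
  apply Subtype.ext
  show (-1 : GL (Fin 2) E) * y = y * (-1)
  simp

theorem TwoGp.m_sq (hZ : TwoGp r q Z) : hZ.m * hZ.m = 1 := by
  apply Subtype.ext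
  show (-1 : GL (Fin 2) E) * (-1) = 1
  simp

theorem TwoGp.m_mul (hZ : TwoGp r q Z) (y : Z) :
    (((hZ.m * y : Z) : GL (Fin 2) E) : Matrix (Fin 2) (Fin 2) E) = -((y : GL (Fin 2) E) : Matrix (Fin 2) (Fin 2) E) := by
  show (((-1 : GL (Fin 2) E) * y : GL (Fin 2) E) : Matrix (Fin 2) (Fin 2) E) = _
  rw [neg_one_mul, Units.val_neg]

theorem TwoGp.m_mul_ne (hZ : TwoGp r q Z) (hr2 : r ≠ 2) (y : Z) : hZ.m * y ≠ y := by
  intro h
  have h1 := hZ.m_mul y
  rw [h] at h1
  have h2 : (2 : E) • ((y : GL (Fin 2) E) : Matrix (Fin 2) (Fin 2) E) = 0 := by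
    rw [two_smul]
    nth_rewrite 1 [h1]
    exact neg_add_cancel _
  have h3 := (smul_eq_zero.1 h2).resolve_left (two_ne_zero_of_char (r := r) hr2)
  have h4 := (y : GL (Fin 2) E).det_ne_zero
  rw [h3] at h4
  exact h4 det_zero

theorem TwoGp.m_mem (hZ : TwoGp r q Z) (P : Sylow 2 Z) : hZ.m ∈ P := by
  have h1 : IsPGroup 2 (zpowers hZ.m) := by
    rintro ⟨_, n, rfl⟩
    refine ⟨1, Subtype.ext ?_⟩
    show (hZ.m ^ n) ^ 2 ^ 1 = 1
    rw [pow_one, ← zpow_natCast, zpow_comm, zpow_natCast, sq, hZ.m_sq, _root_.one_zpow]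
  obtain ⟨R, hR⟩ := h1.exists_le_sylow
  obtain ⟨g, hg⟩ := MulAction.exists_smul_eq Z R P
  have h2 : g * hZ.m * g⁻¹ ∈ P := by
    rw [← hg]
    show _ ∈ ((g • R : Sylow 2 Z) : Subgroup Z)
    rw [Sylow.coe_subgroup_smul]
    exact ⟨_, hR (mem_zpowers _), rfl⟩
  have h3 : g * hZ.m * g⁻¹ = hZ.m := by rw [← hZ.m_comm]; group
  rwa [h3] at h2

theorem TwoGp.m_mul_mem_tz (hZ : TwoGp r q Z) (P : Sylow 2 Z) {d : E} {y : Z} (hy : y ∈ tz Z P d) :
    hZ.m * y ∈ tz Z P d := by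
  obtain ⟨h1, h2, h3⟩ := hy
  refine ⟨mul_mem (hZ.m_mem P) h1, ?_, ?_⟩
  · rw [hZ.m_mul, trace_neg, h2, neg_zero]
  · rw [hZ.m_mul, det_neg, h3]
    simp

theorem trace_conj {x y : Z} (h : IsConj x y) : ((y : GL (Fin 2) E) : Matrix (Fin 2) (Fin 2) E).trace =
    ((x : GL (Fin 2) E) : Matrix (Fin 2) (Fin 2) E).trace ∧ ((y : GL (Fin 2) E) : Matrix (Fin 2) (Fin 2) E).det =
    ((x : GL (Fin 2) E) : Matrix (Fin 2) (Fin 2) E).det := by
  obtain ⟨c, rfl⟩ := isConj_iff.1 h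
  have h1 : (((c * x * c⁻¹ : Z) : GL (Fin 2) E) : Matrix (Fin 2) (Fin 2) E) =
    ((c : GL (Fin 2) E) : Matrix (Fin 2) (Fin 2) E) * (x : GL (Fin 2) E) * ((c : GL (Fin 2) E)⁻¹ : GL (Fin 2) E) := rfl
  rw [h1]
  constructor
  · rw [trace_mul_comm, ← mul_assoc, ← Units.val_mul, inv_mul_cancel, Units.val_one, one_mul]
  · rw [det_mul, det_mul, mul_comm, ← mul_assoc, ← det_mul, ← Units.val_mul, inv_mul_cancel, Units.val_one, det_one,
      one_mul]

/-- **Counting**: `q` does not divide the number of conjugates in `P` of a trace zero element of `P`. -/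
theorem TwoGp.not_dvd_class (hZ : TwoGp r q Z) (hr2 : r ≠ 2) (P : Sylow 2 Z) {x : Z} (hxP : x ∈ P)
    (hx : ((x : GL (Fin 2) E) : Matrix (Fin 2) (Fin 2) E).trace = 0) :
    ¬ q ∣ Nat.card {y : Z // IsConj x y ∧ y ∈ P} := by
  intro hd
  set C : Set Z := {y : Z | IsConj x y ∧ y ∈ P} with hC
  have hd' : q ∣ C.ncard := hd
  have hlt := hZ.lt_of_sylow hr2 P hxP hx
  set d := ((x : GL (Fin 2) E) : Matrix (Fin 2) (Fin 2) E).det with hdet
  have hCt : C ⊆ tz Z P d := by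
    rintro y ⟨hy1, hy2⟩
    obtain ⟨h1, h2⟩ := trace_conj hy1
    exact ⟨hy2, by rw [h1, hx], h2⟩
  have hpos : 0 < C.ncard := (Set.ncard_pos (Set.toFinite _)).2 ⟨x, IsConj.refl x, hxP⟩
  have hodd := hZ.odd hr2
  by_cases hm : IsConj x (hZ.m * x)
  · have h2 : 2 ∣ C.ncard := by
      refine even_ncard C (fun y => hZ.m * y) ?_ ?_ ?_
      · rintro y ⟨hy1, hy2⟩
        refine ⟨?_, mul_mem (hZ.m_mem P) hy2⟩
        obtain ⟨c, hc⟩ := isConj_iff.1 hy1
        refine hm.trans (isConj_iff.2 ⟨c, ?_⟩)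
        rw [← hc, ← mul_assoc, ← mul_assoc, ← mul_assoc, hZ.m_comm c]
      · intro y
        show hZ.m * (hZ.m * y) = y
        rw [← mul_assoc, hZ.m_sq, one_mul]
      · intro y _
        exact hZ.m_mul_ne hr2 y
    have h3 : 2 * q ∣ C.ncard := Nat.Coprime.mul_dvd_of_dvd_of_dvd ((Nat.coprime_two_left).2 hodd) h2 hd'
    have h4 := Nat.le_of_dvd hpos h3
    have h5 := Set.ncard_le_ncard hCt (Set.toFinite _)
    omega
  · have h1 : Disjoint C ((fun y => hZ.m * y) '' C) := by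
      rw [Set.disjoint_left]
      rintro _ ⟨hy1, -⟩ ⟨z, ⟨hz1, -⟩, rfl⟩
      apply hm
      obtain ⟨c, hc⟩ := isConj_iff.1 hz1.symm
      refine hy1.trans (isConj_iff.2 ⟨c, ?_⟩)
      show c * (hZ.m * z) * c⁻¹ = hZ.m * x
      rw [← hc, ← mul_assoc, ← mul_assoc, ← mul_assoc, hZ.m_comm c]
    have h2 : (C ∪ (fun y => hZ.m * y) '' C).ncard = C.ncard + C.ncard := by
      rw [Set.ncard_union_eq h1 (Set.toFinite _) (Set.toFinite _), Set.ncard_image_of_injective _ (mul_right_injective _)]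
    have h3 : C ∪ (fun y => hZ.m * y) '' C ⊆ tz Z P d := by
      rintro y (hy | ⟨z, hz, rfl⟩)
      · exact hCt hy
      · exact hZ.m_mul_mem_tz P (hCt hz)
    have h4 := Set.ncard_le_ncard h3 (Set.toFinite _)
    have h5 := Nat.le_of_dvd hpos hd'
    omega

/-- the centraliser of a trace zero element has order prime to `r` -/
theorem not_dvd_centralizer (hr2 : r ≠ 2) {x : Z}
    (hx : ((x : GL (Fin 2) E) : Matrix (Fin 2) (Fin 2) E).trace = 0) : ¬ r ∣ Nat.card (centralizer ({x} : Set Z)) := by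
  intro hd
  obtain ⟨y, hy⟩ := exists_prime_orderOf_dvd_card' (G := centralizer ({x} : Set Z)) r hd
  have h1 : ((y : Z) : GL (Fin 2) E) ^ r ^ 1 = 1 := by
    have h2 : y ^ r = 1 := by rw [← hy]; exact pow_orderOf_eq_one y
    have h3 := congrArg (fun z : centralizer ({x} : Set Z) => ((z : Z) : GL (Fin 2) E)) h2
    rw [pow_one]
    exact h3
  have h2 : (x : GL (Fin 2) E) * ((y : Z) : GL (Fin 2) E) = ((y : Z) : GL (Fin 2) E) * x := by
    have h3 := mem_centralizer_iff.1 y.2 x rfl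
    exact congrArg Subtype.val h3
  have h3 := eq_one_of_comm hr2 hx h1 h2
  have h4 : y = 1 := Subtype.ext (Subtype.ext h3)
  rw [h4, orderOf_one] at hy
  exact hr.1.one_lt.ne hy

theorem card_class (x : Z) : Nat.card {y : Z // IsConj x y} * Nat.card (centralizer ({x} : Set Z)) = Nat.card Z := by
  have h1 := MulAction.index_stabilizer (ConjAct Z) x
  have h2 : (MulAction.orbit (ConjAct Z) x) = {y : Z | IsConj x y} := by
    ext y
    rw [ConjAct.mem_orbit_conjAct, isConj_comm]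
    rfl
  rw [h2] at h1
  have h3 : Nat.card {y : Z // IsConj x y} = (MulAction.stabilizer (ConjAct Z) x).index := by
    rw [h1]; rfl
  rw [h3, ConjAct.stabilizer_eq_centralizer]
  have h4 := (centralizer ({ConjAct.toConjAct x} : Set (ConjAct Z))).index_mul_card
  exact h4

theorem TwoGp.dvd_card_class (hZ : TwoGp r q Z) (hr2 : r ≠ 2) {x : Z}
    (hx : ((x : GL (Fin 2) E) : Matrix (Fin 2) (Fin 2) E).trace = 0) : q ∣ Nat.card {y : Z // IsConj x y} := by
  have h1 : q ∣ Nat.card {y : Z // IsConj x y} * Nat.card (centralizer ({x} : Set Z)) := by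
    rw [card_class, ← (dOne Z).card_mul_index, card_dOne, hZ.card, mul_assoc]
    exact dvd_mul_right _ _
  refine Nat.Coprime.dvd_of_dvd_mul_right ?_ h1
  obtain ⟨k, rfl⟩ := hZ.pow
  exact Nat.Coprime.pow_left _ ((Nat.Prime.coprime_iff_not_dvd hr.1).2 (not_dvd_centralizer hr2 hx))

/-- a nonscalar `2`-element has a power of trace zero which is not scalar -/
theorem exists_pow_trace_zero {x : Z} (h2 : ∃ k : ℕ, x ^ 2 ^ k = 1)
    (hx : ¬ ∃ c : E, ((x : GL (Fin 2) E) : Matrix (Fin 2) (Fin 2) E) = c • 1) :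
    ∃ n : ℕ, (((x ^ n : Z) : GL (Fin 2) E) : Matrix (Fin 2) (Fin 2) E).trace = 0 := by
  classical
  obtain ⟨k, hk⟩ := h2
  have hex : ∃ j : ℕ, ∃ c : E, (((x ^ 2 ^ j : Z) : GL (Fin 2) E) : Matrix (Fin 2) (Fin 2) E) = c • 1 :=
    ⟨k, 1, by rw [hk, one_smul]; rfl⟩
  obtain ⟨c, hc⟩ := Nat.find_spec hex
  have hpos : Nat.find hex ≠ 0 := by
    intro h0
    rw [h0, pow_zero, pow_one] at hc
    exact hx ⟨c, hc⟩
  obtain ⟨j, hj⟩ : ∃ j, Nat.find hex = j + 1 := ⟨Nat.find hex - 1, by omega⟩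
  have hmin := Nat.find_min hex (m := j) (by omega)
  refine ⟨2 ^ j, trace_eq_zero hmin (c := c) ?_⟩
  rw [hj] at hc
  rw [← hc, ← Units.val_mul]
  congr 1
  show ((x ^ 2 ^ j * x ^ 2 ^ j : Z) : GL (Fin 2) E) = _
  rw [← pow_add, ← two_mul, ← pow_succ']

/-- **The `GL_2` lemma.**  The `2`-elements of an `r'`-subgroup with `PSub 2` are scalar. -/
theorem TwoGp.scalar (hZ : TwoGp r q Z) (hr2 : r ≠ 2) {X : Subgroup Z} (hX : PSub 2 X) (hrX : ¬ r ∣ Nat.card X)
    {x : Z} (hx : x ∈ X) (h2 : ∃ k : ℕ, x ^ 2 ^ k = 1) :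
    ∃ c : E, ((x : GL (Fin 2) E) : Matrix (Fin 2) (Fin 2) E) = c • 1 := by
  by_contra hsc
  obtain ⟨n, hn⟩ := exists_pow_trace_zero h2 hsc
  set y := x ^ n with hy
  have hyX : y ∈ X := pow_mem hx n
  have hyp : IsPGroup 2 (zpowers y) := by
    obtain ⟨k, hk⟩ := h2
    rintro ⟨_, m, rfl⟩
    refine ⟨k, Subtype.ext ?_⟩
    show (y ^ m) ^ 2 ^ k = 1
    rw [← zpow_natCast, zpow_comm, zpow_natCast, hy, pow_right_comm, hk, _root_.one_pow, _root_.one_zpow]
  obtain ⟨P, hP⟩ := hyp.exists_le_sylow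
  have hyP : y ∈ P := hP (mem_zpowers y)
  refine hZ.not_dvd_class hr2 P hyP hn (hX.dvd_card_class_inter hyX P hyP (hZ.dvd_card_class hr2 hn) ?_)
  obtain ⟨k, rfl⟩ := hZ.pow
  exact Nat.Coprime.pow_left _ ((Nat.Prime.coprime_iff_not_dvd hr.1).2 hrX)

theorem slPart_slPart : slPart (slPart Z) = slPart Z := by
  unfold slPart
  rw [inf_assoc, inf_idem]

theorem TwoGp.slPart (hZ : TwoGp r q Z) : TwoGp r q (slPart Z) where
  lt := hZ.lt
  pow := hZ.pow
  neg := mem_slPart.2 ⟨hZ.neg, by rw [Units.val_neg, det_neg]; simp⟩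
  card := by rw [slPart_slPart]; exact hZ.card
  nonab := by rw [slPart_slPart]; exact hZ.nonab

theorem TwoGp.dvd_card_sylow_aux (hZ : TwoGp r q Z) (hr2 : r ≠ 2) (hsl : KW.slPart Z = Z) :
    r ∣ Nat.card (Sylow 2 Z) := by
  classical
  by_contra hcon
  obtain ⟨P⟩ : Nonempty (Sylow 2 Z) := inferInstance
  rw [Sylow.card_eq_index_normalizer P] at hcon
  obtain ⟨k, hk⟩ := hZ.pow
  have hqN : r ^ k ∣ Nat.card (normalizer (P : Set Z)) := by
    have h1 := (normalizer (P : Set Z)).card_mul_index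
    have h2 : Nat.card Z = q * (q ^ 2 - 1) := by rw [← hZ.card, hsl]
    have h3 : r ^ k ∣ Nat.card (normalizer (P : Set Z)) * (normalizer (P : Set Z)).index := by
      rw [h1, h2, hk]; exact dvd_mul_right _ _
    exact Nat.Coprime.dvd_of_dvd_mul_right
      (Nat.Coprime.pow_left _ ((Nat.Prime.coprime_iff_not_dvd hr.1).2 hcon)) h3
  obtain ⟨U, hU⟩ := Sylow.exists_subgroup_card_pow_prime r hqN
  -- a trace zero element of `P`
  obtain ⟨y, hyP, hyn⟩ : ∃ y ∈ P, ¬ ∃ c : E, ((y : GL (Fin 2) E) : Matrix (Fin 2) (Fin 2) E) = c • 1 := by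
    obtain ⟨B, hB, hBp, b, hb, c, hc, hbc⟩ := hZ.nonab
    have hBZ : B ≤ Z := hB.trans inf_le_left
    have hB' : IsPGroup 2 (B.subgroupOf Z) := hBp.comap_of_injective Z.subtype Subtype.val_injective
    obtain ⟨R, hR⟩ := hB'.exists_le_sylow
    obtain ⟨g, hg⟩ := MulAction.exists_smul_eq Z R P
    refine ⟨g * ⟨b, hBZ hb⟩ * g⁻¹, ?_, ?_⟩
    · rw [← hg]
      show _ ∈ ((g • R : Sylow 2 Z) : Subgroup Z)
      rw [Sylow.coe_subgroup_smul]
      exact ⟨_, hR (show (⟨b, hBZ hb⟩ : Z) ∈ B.subgroupOf Z from hb), rfl⟩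
    · rintro ⟨e, he⟩
      apply hbc
      have h1 : ((g : GL (Fin 2) E) * b * (g : GL (Fin 2) E)⁻¹ : GL (Fin 2) E).1 = e • (1 : Matrix (Fin 2) (Fin 2) E) := he
      have h2 : (b : Matrix (Fin 2) (Fin 2) E) = e • (1 : Matrix (Fin 2) (Fin 2) E) := by
        have h3 : b = (g : GL (Fin 2) E)⁻¹ * ((g : GL (Fin 2) E) * b * (g : GL (Fin 2) E)⁻¹) * (g : GL (Fin 2) E) := by
          group
        rw [h3, Units.val_mul, Units.val_mul, h1, mul_smul_comm, mul_one, smul_mul_assoc, ← Units.val_mul,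
          inv_mul_cancel, Units.val_one]
      apply Units.ext
      rw [Units.val_mul, Units.val_mul, h2]
      simp
  obtain ⟨n, hn⟩ := exists_pow_trace_zero (by
    obtain ⟨j, hj⟩ := P.isPGroup' ⟨y, hyP⟩
    exact ⟨j, congrArg Subtype.val hj⟩) hyn
  set x := y ^ n with hx
  have hxP : x ∈ P := pow_mem hyP n
  have hdet : ∀ z : Z, ((z : GL (Fin 2) E) : Matrix (Fin 2) (Fin 2) E).det = 1 := by
    intro z
    have h1 : (z : GL (Fin 2) E) ∈ KW.slPart Z := by rw [hsl]; exact z.2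
    exact (mem_slPart.1 h1).2
  have hlt := hZ.lt_of_sylow hr2 P hxP hn
  rw [hdet x] at hlt
  -- the action of `U`
  let T := {z : Z // z ∈ tz Z P 1}
  have hact : ∀ (u : U) (z : Z), z ∈ tz Z P 1 → ((u : normalizer (P : Set Z)) : Z) * z * ((u : normalizer (P : Set Z)) : Z)⁻¹ ∈ tz Z P 1 := by
    rintro u z ⟨h1, h2, h3⟩
    have h4 := trace_conj (isConj_iff.2 ⟨((u : normalizer (P : Set Z)) : Z), rfl⟩ : IsConj z _)
    refine ⟨?_, by rw [h4.1, h2], hdet _⟩
    exact (mem_normalizer_iff.1 (u : normalizer (P : Set Z)).2 z).1 h1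
  let _ : MulAction U T :=
    { smul := fun u z => ⟨_, hact u z z.2⟩
      one_smul := fun z => Subtype.ext (by
        show (1 : Z) * z * (1 : Z)⁻¹ = z
        group)
      mul_smul := fun u v z => Subtype.ext (by
        show ((u : normalizer (P : Set Z)) * (v : normalizer (P : Set Z)) : Z) * z *
          ((u : normalizer (P : Set Z)) * (v : normalizer (P : Set Z)) : Z)⁻¹ =
          (u : normalizer (P : Set Z)) * ((v : normalizer (P : Set Z)) * z * ((v : normalizer (P : Set Z)) : Z)⁻¹) *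
          ((u : normalizer (P : Set Z)) : Z)⁻¹
        group) }
  have hstab : ∀ z : T, MulAction.stabilizer U z = ⊥ := by
    intro z
    rw [eq_bot_iff]
    intro u hu
    have h1 : ((u : normalizer (P : Set Z)) : Z) * z * ((u : normalizer (P : Set Z)) : Z)⁻¹ = z :=
      congrArg Subtype.val hu
    have h2 : (z : Z) * ((u : normalizer (P : Set Z)) : Z) = ((u : normalizer (P : Set Z)) : Z) * z :=
      (mul_inv_eq_iff_eq_mul.1 h1).symm
    have h3 : (((u : normalizer (P : Set Z)) : Z) : GL (Fin 2) E) ^ r ^ k = 1 := by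
      have h4 : u ^ r ^ k = 1 := by rw [← hU]; exact pow_card_eq_one'
      exact congrArg (fun w : U => (((w : normalizer (P : Set Z)) : Z) : GL (Fin 2) E)) h4
    have h5 := eq_one_of_comm hr2 z.2.2.1 h3 (congrArg Subtype.val h2)
    rw [mem_bot]
    exact Subtype.ext (Subtype.ext (Subtype.ext h5))
  have hdvd : q ∣ (tz Z P 1).ncard := by
    have h1 : Nat.card T = Nat.card (Quotient (MulAction.orbitRel U T)) * Nat.card U := by
      rw [← Nat.card_prod]
      exact Nat.card_congr (MulAction.selfEquivOrbitsQuotientProd hstab)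
    have h2 : (tz Z P 1).ncard = Nat.card T := rfl
    rw [h2, h1, hU, ← hk]
    exact dvd_mul_left _ _
  have heven : 2 ∣ (tz Z P 1).ncard := by
    refine even_ncard _ (fun y => hZ.m * y) (fun y hy => hZ.m_mul_mem_tz P hy) ?_ (fun y _ => hZ.m_mul_ne hr2 y)
    intro y
    show hZ.m * (hZ.m * y) = y
    rw [← mul_assoc, hZ.m_sq, one_mul]
  have hpos : 0 < (tz Z P 1).ncard := (Set.ncard_pos (Set.toFinite _)).2 ⟨x, hxP, hn, hdet x⟩
  have h3 : 2 * q ∣ (tz Z P 1).ncard :=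
    Nat.Coprime.mul_dvd_of_dvd_of_dvd ((Nat.coprime_two_left).2 (hZ.odd hr2)) heven hdvd
  have h4 := Nat.le_of_dvd hpos h3
  omega

/-- `r` divides the number of Sylow `2`-subgroups of `SL_2(q)`. -/
theorem TwoGp.dvd_card_sylow (hZ : TwoGp r q Z) (hr2 : r ≠ 2) : r ∣ Nat.card (Sylow 2 (KW.slPart Z)) :=
  hZ.slPart.dvd_card_sylow_aux hr2 slPart_slPart

end Sign

end Cfsg.Agent.H838.KW
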