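import Cfsg.Agent.H838.KW.CrossRows
import Cfsg.Agent.H592.KW.Rows
import Cfsg.Agent.H388.KW.OmThree
import Cfsg.Prelude.Def_LieTypeChar

/-!
# Cross characteristic rows of the polar groups, every characteristic

`crossNo_of_polar` : `PSp`, `PSU`, `PΩ` (odd, plus, minus) in characteristic `r`: no Kegel-Wielandt subgroup of order
prime to `r`.
-/

set_option autoImplicit false

open Subgroup

namespace Cfsg.Agent.H838.KW

open Cfsg Cfsg.Agent.H146.KW

universe u

/-- characteristic two is the theorem of Feit and Thompson -/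
theorem crossNo_two {G : Type u} [Group G] [Finite G] : CrossNo 2 G := by
  intro H hs hc _ _ h2
  have : Group.IsSolvable H := Cfsg.Agent.S0205.result (Nat.odd_iff.2 (by omega))
  exact hc (IsSimpleGroup.comm_iff_isSolvable.2 this |> fun h => ⟨⟨h⟩⟩)

theorem CrossNo.of_equiv {r : ℕ} {G : Type u} [Group G] [Finite G] {G' : Type*} [Group G'] [Finite G'] (e : G ≃* G')
    (h : CrossNo r G') : CrossNo r G := by
  intro H hs hc ht hK hr
  have eH : H ≃* H.map e.toMonoidHom := H.equivMapOfInjective e.toMonoidHom e.injective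
  refine h (H.map e.toMonoidHom) ?_ ?_ ?_ ?_ ?_
  · exact (MulEquiv.isSimpleGroup_congr eH).mp hs
  · intro hc'
    apply hc
    exact ⟨⟨fun a b => eH.injective (by rw [map_mul, map_mul]; exact hc'.is_comm.comm _ _)⟩⟩
  · intro h1
    apply ht
    rw [eq_top_iff]
    intro x _
    obtain ⟨y, hy, hyx⟩ : e x ∈ H.map e.toMonoidHom := h1 ▸ Subgroup.mem_top _
    exact e.injective hyx ▸ hy
  · intro p hp
    exact (hK p).map_equiv e
  · rwa [← Nat.card_congr eH.toEquiv]

variable {F : Type} [Field F] [Fintype F] {r : ℕ} [Fact r.Prime] [CharP F r]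

theorem crossNo_pomegaOdd (hr : r ≠ 2) {m : ℕ} (hm : 3 ≤ m) : CrossNo r (POmega F (quadFormOdd m F)) := by
  have : Finite (POmega F (quadFormOdd m F)) := Quotient.finite _
  rcases card_eq_three_or_lt (F := F) hr one_ne_zero (pow_one (Fintype.card F)).symm with ⟨rfl, h3⟩ | h3
  · exact crossNo_of_five (Cfsg.Agent.H388.KW.noP_pomegaOdd3 h3 hm)
  · exact crossNo_of_two (Cfsg.Agent.H592.KW.noP_pomegaOdd hr h3 hm)

theorem crossNo_pomegaPlus (hr : r ≠ 2) {m : ℕ} (hm : 4 ≤ m) : CrossNo r (POmega F (quadFormPlus m F)) := by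
  have : Finite (POmega F (quadFormPlus m F)) := Quotient.finite _
  rcases card_eq_three_or_lt (F := F) hr one_ne_zero (pow_one (Fintype.card F)).symm with ⟨rfl, h3⟩ | h3
  · exact crossNo_of_five (Cfsg.Agent.H388.KW.noP_pomegaPlus3 h3 hm)
  · exact crossNo_of_two (Cfsg.Agent.H592.KW.noP_pomegaPlus hr h3 hm)

theorem crossNo_pomegaMinus (hr : r ≠ 2) {m : ℕ} (hm : 4 ≤ m) {a b : F}
    (hab : ∀ z₁ z₂ : F, z₁ ^ 2 + a * z₁ * z₂ + b * z₂ ^ 2 = 0 → z₁ = 0 ∧ z₂ = 0) :
    CrossNo r (POmega F (quadFormMinus (m - 1) F a b)) := by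
  have : Finite (POmega F (quadFormMinus (m - 1) F a b)) := Quotient.finite _
  rcases card_eq_three_or_lt (F := F) hr one_ne_zero (pow_one (Fintype.card F)).symm with ⟨rfl, h3⟩ | h3
  · exact crossNo_of_five (Cfsg.Agent.H388.KW.noP_pomegaMinus3 h3 hm hab)
  · exact crossNo_of_two (Cfsg.Agent.H592.KW.noP_pomegaMinus hr h3 hm hab)

/-- **All the polar groups in characteristic `r`.** -/
theorem crossNo_of_polar {r : ℕ} {G : Type u} [Group G] [Finite G]
    (h : IsPSpChar r G ∨ IsPSUChar r G ∨ IsPOmegaOddChar r G ∨ IsPOmegaPlusChar r G ∨ IsPOmegaMinusChar r G) :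
    CrossNo r G := by
  by_cases hr : r = 2
  · subst hr
    exact crossNo_two
  rcases h with ⟨F, _, _, _, m, hm, -, ⟨e⟩⟩ | ⟨F, _, _, _, n, q, hF, hn, -, ⟨e⟩⟩ | ⟨F, _, _, _, m, hm, -, ⟨e⟩⟩ |
    ⟨F, _, _, _, m, hm, ⟨e⟩⟩ | ⟨F, _, _, _, m, a, b, hm, hab, ⟨e⟩⟩
  · have : Fact r.Prime := ⟨CharP.char_is_prime F r⟩
    have : Finite (PSp m F) := Quotient.finite _
    exact CrossNo.of_equiv e (crossNo_psp hr hm)
  · have : Fact r.Prime := ⟨CharP.char_is_prime F r⟩
    have : Finite (PSU n F q) := Quotient.finite _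
    exact CrossNo.of_equiv e (crossNo_psu hr hF hn)
  · have : Fact r.Prime := ⟨CharP.char_is_prime F r⟩
    have : Finite (POmega F (quadFormOdd m F)) := Quotient.finite _
    exact CrossNo.of_equiv e (crossNo_pomegaOdd hr hm)
  · have : Fact r.Prime := ⟨CharP.char_is_prime F r⟩
    have : Finite (POmega F (quadFormPlus m F)) := Quotient.finite _
    exact CrossNo.of_equiv e (crossNo_pomegaPlus hr hm)
  · have : Fact r.Prime := ⟨CharP.char_is_prime F r⟩
    have : Finite (POmega F (quadFormMinus (m - 1) F a b)) := Quotient.finite _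
    exact CrossNo.of_equiv e (crossNo_pomegaMinus hr hm hab)

end Cfsg.Agent.H838.KW
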