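import Cfsg.Agent.H146.KW.Tools

/-!
# Tools for the cross characteristic part of S4243

* `commute_of_full` : a `p`-subgroup `S` all of whose `A`-conjugates meet `H` in a Sylow `p`-subgroup of `H`, normalising
  `A` of order prime to `|H|`: `S ∩ H` centralises `A`;
* `block` : the block lemma;
* `not_dvd_of_blocks` : the two together.
-/

set_option autoImplicit false
set_option linter.unusedSectionVars false

open Subgroup

namespace Cfsg.Agent.H838.KW

open Cfsg.Agent.H146.KW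

universe u v

section Full

variable {G : Type u} [Group G] [Finite G] {p : ℕ} [hp : Fact p.Prime]

/-- A `p`-subgroup `X` of `H` containing `T ∩ H`, `|H : T ∩ H|` prime to `p`, lies in `T`. -/
theorem le_of_full {H T X : Subgroup G} (hX : IsPGroup p X) (hXH : X ≤ H) (hT : T ⊓ H ≤ X)
    (hf : ¬ p ∣ T.relIndex H) : X ≤ T := by
  have h1 : (T ⊓ H).relIndex X * X.relIndex H = (T ⊓ H).relIndex H := relIndex_mul_relIndex _ _ _ hT hXH
  rw [inf_relIndex_right] at h1
  obtain ⟨n, hn⟩ := IsPGroup.iff_card.1 hX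
  obtain ⟨k, -, hk⟩ := (Nat.dvd_prime_pow hp.1).1 (hn ▸ relIndex_dvd_card (T ⊓ H) X)
  have hk0 : k = 0 := by
    by_contra hk0
    exact hf (h1 ▸ dvd_mul_of_dvd_left (hk ▸ dvd_pow_self p hk0) _)
  rw [hk0, pow_zero, relIndex_eq_one] at hk
  exact hk.trans inf_le_left

theorem pow_mem_of_mem_sup {A S : Subgroup G} (hn : ∀ s ∈ S, ∀ a ∈ A, s * a * s⁻¹ ∈ A) {y : G} (hy : y ∈ A ⊔ S) :
    y ^ Nat.card S ∈ A := by
  have hSN : S ≤ normalizer (A : Set G) := by
    intro s hs
    rw [mem_normalizer_iff]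
    refine fun a => ⟨fun ha => hn s hs a ha, fun ha => ?_⟩
    have := hn s⁻¹ (inv_mem hs) _ ha
    have h2 : s⁻¹ * (s * a * s⁻¹) * s⁻¹⁻¹ = a := by group
    rwa [h2] at this
  have hAN : A ≤ normalizer (A : Set G) := le_normalizer
  have hyN : y ∈ normalizer (A : Set G) := (sup_le hAN hSN) hy
  have : (A.subgroupOf (normalizer (A : Set G))).Normal := normal_in_normalizer
  set N := normalizer (A : Set G)
  -- `y = a * s` in the quotient
  have h1 : (⟨y, hyN⟩ : N) ∈ A.subgroupOf N ⊔ S.subgroupOf N := by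
    rw [← subgroupOf_sup hAN hSN]
    exact hy
  rw [sup_comm, mem_sup_of_normal_right] at h1
  obtain ⟨s, hs, a, ha, hsa⟩ := h1
  have h2 : (QuotientGroup.mk (⟨y, hyN⟩ : N) : N ⧸ A.subgroupOf N) = QuotientGroup.mk s := by
    rw [← hsa, QuotientGroup.mk_mul, (QuotientGroup.eq_one_iff a).2 ha, mul_one]
  have h3 : (QuotientGroup.mk ((⟨y, hyN⟩ : N) ^ Nat.card S) : N ⧸ A.subgroupOf N) = 1 := by
    rw [QuotientGroup.mk_pow, h2, ← QuotientGroup.mk_pow]
    have h4 : s ^ Nat.card S = 1 := by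
      have h5 : (⟨(s : G), hs⟩ : S) ^ Nat.card S = 1 := pow_card_eq_one'
      have h6 : (s : G) ^ Nat.card S = 1 := congrArg Subtype.val h5
      exact Subtype.ext h6
    rw [h4]; rfl
  rw [QuotientGroup.eq_one_iff] at h3
  exact h3

/-- **Generalised principle B.** -/
theorem commute_of_full {H A S : Subgroup G} (hS : IsPGroup p S)
    (hn : ∀ s ∈ S, ∀ a ∈ A, s * a * s⁻¹ ∈ A) (hc : (Nat.card A).Coprime (Nat.card H))
    (hf : ∀ a ∈ A, ¬ p ∣ (S.map (MulAut.conj a).toMonoidHom).relIndex H) {x a : G} (hxS : x ∈ S) (hxH : x ∈ H)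
    (ha : a ∈ A) : Commute a x := by
  obtain ⟨k, hk⟩ := IsPGroup.iff_card.1 hS
  by_cases hpH : p ∣ Nat.card H
  swap
  · -- `x = 1`
    have h1 : orderOf x ∣ p ^ k := by
      rw [← hk]
      have := orderOf_dvd_natCard (⟨x, hxS⟩ : S)
      rwa [← orderOf_mk x hxS] 
    have h2 : orderOf x ∣ Nat.card H := by
      have := orderOf_dvd_natCard (⟨x, hxH⟩ : H)
      rwa [← orderOf_mk x hxH]
    have h3 : orderOf x = 1 := by
      refine Nat.eq_one_of_dvd_coprimes ?_ h1 h2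
      exact Nat.Coprime.pow_left _ ((Nat.Prime.coprime_iff_not_dvd hp.1).2 hpH)
    rw [orderOf_eq_one_iff] at h3
    rw [h3]
    exact Commute.one_right a
  have hAp : (Nat.card A).Coprime p := Nat.Coprime.coprime_dvd_right hpH hc
  -- `A ∩ H = 1`, `A ∩ S = 1`
  have hAH : ∀ y ∈ A, y ∈ H → y = 1 := by
    intro y hyA hyH
    rw [← orderOf_eq_one_iff]
    refine Nat.eq_one_of_dvd_coprimes hc ?_ ?_
    · have := orderOf_dvd_natCard (⟨y, hyA⟩ : A)
      rwa [← orderOf_mk y hyA]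
    · have := orderOf_dvd_natCard (⟨y, hyH⟩ : H)
      rwa [← orderOf_mk y hyH]
  have hAS : ∀ y ∈ A, y ∈ S → y = 1 := by
    intro y hyA hyS
    rw [← orderOf_eq_one_iff]
    refine Nat.eq_one_of_dvd_coprimes (Nat.Coprime.pow_right k hAp) ?_ ?_
    · have := orderOf_dvd_natCard (⟨y, hyA⟩ : A)
      rwa [← orderOf_mk y hyA]
    · have := orderOf_dvd_natCard (⟨y, hyS⟩ : S)
      rw [← hk]
      rwa [← orderOf_mk y hyS]
  -- `X = H ∩ A S` is a `p`-group
  have hX : IsPGroup p ↥(H ⊓ (A ⊔ S)) := by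
    intro y
    refine ⟨k, Subtype.ext ?_⟩
    have h1 := pow_mem_of_mem_sup hn (mem_inf.1 y.2).2
    rw [hk] at h1
    exact hAH _ h1 (pow_mem (mem_inf.1 y.2).1 _)
  -- so `X` lies in all the conjugates
  have hle : H ⊓ (A ⊔ S) ≤ S.map (MulAut.conj a).toMonoidHom := by
    refine le_of_full hX inf_le_left ?_ (hf a ha)
    rintro y ⟨hy1, hy2⟩
    refine ⟨hy2, ?_⟩
    obtain ⟨s, hs, rfl⟩ := hy1
    have h1 : a ∈ A ⊔ S := mem_sup_left ha
    have h2 : s ∈ A ⊔ S := mem_sup_right hs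
    show a * s * a⁻¹ ∈ A ⊔ S
    exact mul_mem (mul_mem h1 h2) (inv_mem h1)
  obtain ⟨s, hs, hsx⟩ := hle (mem_inf.2 ⟨hxH, mem_sup_right hxS⟩ : x ∈ H ⊓ (A ⊔ S))
  have hsx' : a * s * a⁻¹ = x := hsx
  have h1 : x * s⁻¹ = 1 := by
    refine hAS _ ?_ (mul_mem hxS (inv_mem hs))
    have h2 : x * s⁻¹ = a * (s * a⁻¹ * s⁻¹) := by rw [← hsx']; group
    rw [h2]
    exact mul_mem ha (hn s hs _ (inv_mem ha))
  have h2 : x = s := by rwa [mul_inv_eq_one] at h1
  rw [← h2] at hsx'
  show a * x = x * a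
  exact mul_inv_eq_iff_eq_mul.1 hsx'

end Full

section Block

open Pointwise

variable {L : Type u} [Group L] [Finite L] {p : ℕ} [hp : Fact p.Prime]

theorem sup_eq_top_of_isPGroup {D R : Subgroup L} [D.Normal] (hq : IsPGroup p (L ⧸ D)) (hR : ¬ p ∣ R.index) :
    D ⊔ R = ⊤ := by
  obtain ⟨n, hn⟩ := IsPGroup.iff_card.1 hq
  have h1 : (D ⊔ R).index ∣ p ^ n := by
    rw [← hn]
    exact index_dvd_of_le le_sup_left
  obtain ⟨k, -, hk⟩ := (Nat.dvd_prime_pow hp.1).1 h1
  have h2 : (D ⊔ R).index ∣ R.index := index_dvd_of_le le_sup_right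
  have hk0 : k = 0 := by
    by_contra hk0
    exact hR ((hk ▸ dvd_pow_self p hk0 : p ∣ (D ⊔ R).index).trans h2)
  rw [hk0, pow_zero, index_eq_one] at hk
  exact hk

theorem card_range_conj (A Q : Subgroup L) :
    Nat.card (Set.range fun a : A => Q.map (MulAut.conj (a : L)).toMonoidHom) =
      (normalizer (Q : Set L)).relIndex A := by
  let _ : MulAction A (Subgroup L) := MulAction.compHom (Subgroup L) ((MulAut.conj (G := L)).comp A.subtype)
  have h1 : MulAction.stabilizer A Q = (normalizer (Q : Set L)).subgroupOf A := by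
    ext a
    rw [MulAction.mem_stabilizer_iff, mem_subgroupOf]
    show MulAut.conj (a : L) • Q = Q ↔ _
    constructor
    · intro h
      rw [mem_normalizer_iff]
      intro q
      have h3 : (a : L) * q * (a : L)⁻¹ ∈ MulAut.conj (a : L) • Q ↔ q ∈ Q := by
        have := Subgroup.smul_mem_pointwise_smul_iff (a := MulAut.conj (a : L)) (S := Q) (x := q)
        exact this
      rw [← h3, h]
    · intro h
      rw [mem_normalizer_iff] at h
      ext q
      rw [Subgroup.mem_pointwise_smul_iff_inv_smul_mem]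
      have h3 : ((MulAut.conj (a : L))⁻¹ • q) = (a : L)⁻¹ * q * (a : L) := by
        rw [← map_inv]
        show MulAut.conj (a : L)⁻¹ q = _
        rw [MulAut.conj_apply, inv_inv]
      rw [h3, h]
      have h4 : (a : L) * ((a : L)⁻¹ * q * (a : L)) * (a : L)⁻¹ = q := by group
      rw [h4]
  have h2 : (Set.range fun a : A => Q.map (MulAut.conj (a : L)).toMonoidHom) = MulAction.orbit A Q := rfl
  rw [h2, relIndex, ← h1, MulAction.index_stabilizer]
  rfl

/-- Sylow subgroups with `p'`-index are conjugate by elements of the normal subgroup `D` if `L / D` is a `p`-group. -/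
theorem exists_conj_mem {D : Subgroup L} [D.Normal] (hq : IsPGroup p (L ⧸ D)) (R R' : Sylow p L) :
    ∃ d ∈ D, ∀ x ∈ R, d * x * d⁻¹ ∈ R' := by
  obtain ⟨w, hw⟩ := MulAction.exists_smul_eq L R R'
  have h1 : w ∈ D ⊔ (R : Subgroup L) := by
    rw [sup_eq_top_of_isPGroup hq R.not_dvd_index]
    trivial
  rw [sup_comm, mem_sup_of_normal_right] at h1
  obtain ⟨s, hs, d, hd, rfl⟩ := h1
  refine ⟨s * d * s⁻¹, (inferInstance : D.Normal).conj_mem d hd s, fun x hx => ?_⟩
  have h2 : (s * d) * (s⁻¹ * x * s) * (s * d)⁻¹ ∈ R' := by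
    rw [← hw]
    exact ⟨_, mul_mem (mul_mem (inv_mem hs) hx) hs, rfl⟩
  have h3 : (s * d) * (s⁻¹ * x * s) * (s * d)⁻¹ = s * d * s⁻¹ * x * (s * d * s⁻¹)⁻¹ := by group
  rwa [h3] at h2

variable {ι : Type v} [MulAction L ι]

/-- the kernel of the action on the blocks -/
def ker (L : Type u) [Group L] (ι : Type v) [MulAction L ι] : Subgroup L := (MulAction.toPermHom L ι).ker

theorem mem_ker {x : L} : x ∈ ker L ι ↔ ∀ i : ι, x • i = i := by
  unfold ker
  rw [MonoidHom.mem_ker]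
  constructor
  · intro h i
    exact congrArg (fun f : Equiv.Perm ι => f i) h
  · intro h
    ext i
    exact h i

instance ker_normal : (ker L ι).Normal := MonoidHom.normal_ker _

/-- **Block lemma, permutation part.**  `L` permutes the pairwise commuting subgroups `K i`; `r` divides the number of
Sylow `p`-subgroups of each `K i` but not `|H|`; the `p`-elements of `H` fixing all blocks centralise the blocks.  Then
`H ∩ P` fixes all blocks. -/
theorem smul_eq_of_block {r : ℕ} {H : Subgroup L} (h : PSub p H) (hr : ¬ r ∣ Nat.card H) (K : ι → Subgroup L)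
    (hK : ∀ (g : L) (i : ι), ∀ x ∈ K i, g * x * g⁻¹ ∈ K (g • i))
    (comm : ∀ i j : ι, i ≠ j → ∀ x ∈ K i, ∀ y ∈ K j, x * y = y * x)
    (htriv : ∀ i j : ι, ∀ x ∈ K i, x • j = j)
    (hb : ∀ i : ι, r ∣ Nat.card (Sylow p (K i)))
    (P : Sylow p L) {x : L} (hxP : x ∈ P) (hxH : x ∈ H) (i : ι) : x • i = i := by
  by_contra hij
  set j := x • i with hj
  have hij' : i ≠ j := fun h => hij h.symm
  -- `Y` is the product of the blocks
  set Y : Subgroup L := ⨆ i, K i with hY
  have hKY : ∀ i, K i ≤ Y := fun i => le_iSup K i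
  have hYn : Y.Normal := by
    constructor
    intro y hy g
    rw [hY] at hy ⊢
    refine Subgroup.iSup_induction K (C := fun z => g * z * g⁻¹ ∈ ⨆ i, K i) hy ?_ ?_ ?_
    · intro i z hz
      exact (le_iSup K (g • i)) (hK g i z hz)
    · rw [mul_one, mul_inv_cancel]; exact one_mem _
    · intro z w hz hw
      have h1 : g * (z * w) * g⁻¹ = g * z * g⁻¹ * (g * w * g⁻¹) := by group
      rw [h1]; exact mul_mem hz hw
  have hYk : ∀ y ∈ Y, ∀ i : ι, y • i = i := by
    intro y hy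
    rw [hY] at hy
    refine Subgroup.iSup_induction K (C := fun z => ∀ i : ι, z • i = i) hy ?_ ?_ ?_
    · intro i z hz j
      exact htriv i j z hz
    · intro i; exact one_smul _ _
    · intro z w hz hw i
      rw [mul_smul, hw, hz]
  set D := H ⊓ Y with hD
  -- `Q = P ∩ K j` is a Sylow `p`-subgroup of `K j`
  have hKN : K j ≤ ker L ι := fun y hy => mem_ker.2 fun i => htriv j i y hy
  have hPj : ∀ P : Sylow p L, ¬ p ∣ (P : Subgroup L).relIndex (K j) := by
    have h1 : PSub p (⊤ ⊓ ker L ι : Subgroup L) := (psub_top (p := p) (G := L)).inf_normal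
    rw [top_inf_eq] at h1
    refine h1.of_normal hKN ⟨fun y hy g => ?_⟩
    rw [mem_subgroupOf] at hy ⊢
    have h2 := hK g j y hy
    rwa [mem_ker.1 g.2 j] at h2
  set Q : Subgroup L := (P : Subgroup L) ⊓ K j with hQ
  -- the key fact: the `K j`-conjugates of `Q` are `D`-conjugates
  have key : ∀ y ∈ K j, ∃ e ∈ D, Q.map (MulAut.conj y).toMonoidHom = Q.map (MulAut.conj e).toMonoidHom := by
    intro y hy
    -- the Sylow subgroup `y P y⁻¹`
    set P' : Sylow p L := y • P with hP'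
    -- the group `X = H ∩ Y P`
    set X : Subgroup L := H ⊓ (Y ⊔ P) with hX
    have hRX : ((P : Subgroup L)) ⊓ H ≤ X := fun z hz => mem_inf.2 ⟨hz.2, mem_sup_right hz.1⟩
    have hR'X : ((P' : Subgroup L)) ⊓ H ≤ X := by
      rintro z ⟨hz1, hz2⟩
      refine mem_inf.2 ⟨hz2, ?_⟩
      rw [SetLike.mem_coe, hP', Sylow.coe_subgroup_smul] at hz1
      obtain ⟨w, hw, rfl⟩ := hz1
      have h1 : y ∈ Y ⊔ (P : Subgroup L) := mem_sup_left (hKY j hy)
      have h2 : w ∈ Y ⊔ (P : Subgroup L) := mem_sup_right hw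
      show y * w * y⁻¹ ∈ _
      exact mul_mem (mul_mem h1 h2) (inv_mem h1)
    have hsyl : ∀ S : Sylow p L, (S : Subgroup L) ⊓ H ≤ X → ¬ p ∣ ((S : Subgroup L).subgroupOf X).index := by
      intro S hS hd
      have h1 : ((S : Subgroup L) ⊓ H).relIndex X * X.relIndex H = ((S : Subgroup L) ⊓ H).relIndex H :=
        relIndex_mul_relIndex _ _ _ hS inf_le_left
      rw [inf_relIndex_right] at h1
      have h2 : ((S : Subgroup L).subgroupOf X).index = ((S : Subgroup L) ⊓ H).relIndex X := by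
        have h3 : (S : Subgroup L) ⊓ H ⊓ X = (S : Subgroup L) ⊓ X := by
          ext z
          simp only [mem_inf, hX]
          tauto
        rw [← inf_relIndex_right, h3, inf_relIndex_right]
        rfl
      rw [h2] at hd
      exact h S (h1 ▸ dvd_mul_of_dvd_left hd _)
    let R : Sylow p X := IsPGroup.toSylow (P := (P : Subgroup L).subgroupOf X) P.isPGroup'.comap_subtype (hsyl P hRX)
    let R' : Sylow p X := IsPGroup.toSylow (P := (P' : Subgroup L).subgroupOf X) P'.isPGroup'.comap_subtype (hsyl P' hR'X)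
    have hDn : (D.subgroupOf X).Normal := by
      constructor
      intro d hd g
      rw [mem_subgroupOf] at hd ⊢
      exact mem_inf.2 ⟨mul_mem (mul_mem (mem_inf.1 g.2).1 (mem_inf.1 hd).1) (inv_mem (mem_inf.1 g.2).1),
        hYn.conj_mem _ (mem_inf.1 hd).2 _⟩
    have hq : IsPGroup p (X ⧸ D.subgroupOf X) := by
      obtain ⟨k, hk⟩ := IsPGroup.iff_card.1 P.isPGroup'
      intro z
      obtain ⟨z, rfl⟩ := QuotientGroup.mk_surjective z
      refine ⟨k, ?_⟩
      rw [← QuotientGroup.mk_pow, QuotientGroup.eq_one_iff, mem_subgroupOf]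
      have h1 := pow_mem_of_mem_sup (A := Y) (S := (P : Subgroup L)) (fun s _ a ha => hYn.conj_mem a ha s) (mem_inf.1 z.2).2
      rw [hk] at h1
      exact mem_inf.2 ⟨pow_mem (mem_inf.1 z.2).1 _, h1⟩
    obtain ⟨d, hd, hdR⟩ := exists_conj_mem hq R R'
    rw [mem_subgroupOf] at hd
    -- `d x d⁻¹ ∈ P'`
    have h1 : (d : L) * x * (d : L)⁻¹ ∈ (P' : Subgroup L) := by
      have := hdR ⟨x, hRX ⟨hxP, hxH⟩⟩ hxP
      exact this
    refine ⟨(d : L) * (x * (d : L)⁻¹ * x⁻¹), mul_mem hd (mem_inf.2 ⟨mul_mem (mul_mem hxH (inv_mem (mem_inf.1 hd).1))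
      (inv_mem hxH), hYn.conj_mem _ (inv_mem (mem_inf.1 hd).2) _⟩), ?_⟩
    have hsmul : ∀ (y w : L) (S : Sylow p L), w ∈ ((y • S : Sylow p L) : Subgroup L) → y⁻¹ * w * y ∈ (S : Subgroup L) := by
      intro y w S hw
      rw [Sylow.coe_subgroup_smul] at hw
      obtain ⟨v, hv, rfl⟩ := hw
      have h1 : y⁻¹ * (y * v * y⁻¹) * y = v := by group
      show y⁻¹ * (y * v * y⁻¹) * y ∈ _
      rw [h1]; exact hv
    have h2 := hsmul y _ P h1
    have h3 : (y⁻¹ * ((d : L) * x * (d : L)⁻¹) * y) • i = j := by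
      rw [mul_smul, mul_smul, mul_smul, mul_smul, hYk y (hKY j hy), hYk _ (inv_mem (mem_inf.1 hd).2), ← hj,
        hYk _ (mem_inf.1 hd).2, hYk _ (inv_mem (hKY j hy))]
    refine (Subgroup.eq_of_le_of_card_ge ?_ ?_).symm
    · rintro _ ⟨a, ha, rfl⟩
      have ha' : x⁻¹ * a * x ∈ K i := by
        have h4 := hK x⁻¹ j a ha.2
        rwa [inv_inv, hj, inv_smul_smul] at h4
      have ha'' : x⁻¹ * a * x ∈ (P : Subgroup L) := mul_mem (mul_mem (inv_mem hxP) ha.1) hxP
      have hya := comm i j hij' _ ha' y hy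
      have h4 : y⁻¹ * ((d : L) * x * (d : L)⁻¹) * y * (x⁻¹ * a * x) * (y⁻¹ * ((d : L) * x * (d : L)⁻¹) * y)⁻¹ ∈
          (P : Subgroup L) := mul_mem (mul_mem h2 ha'') (inv_mem h2)
      refine ⟨_, ⟨h4, h3 ▸ hK _ i _ ha'⟩, ?_⟩
      show y * (y⁻¹ * ((d : L) * x * (d : L)⁻¹) * y * (x⁻¹ * a * x) * (y⁻¹ * ((d : L) * x * (d : L)⁻¹) * y)⁻¹) * y⁻¹ =
        (d : L) * (x * (d : L)⁻¹ * x⁻¹) * a * ((d : L) * (x * (d : L)⁻¹ * x⁻¹))⁻¹
      have h5 : y * (x⁻¹ * a * x) * y⁻¹ = x⁻¹ * a * x := by rw [← hya]; group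
      calc y * (y⁻¹ * ((d : L) * x * (d : L)⁻¹) * y * (x⁻¹ * a * x) * (y⁻¹ * ((d : L) * x * (d : L)⁻¹) * y)⁻¹) * y⁻¹ =
          ((d : L) * x * (d : L)⁻¹) * (y * (x⁻¹ * a * x) * y⁻¹) * ((d : L) * x * (d : L)⁻¹)⁻¹ := by group
        _ = (d : L) * (x * (d : L)⁻¹ * x⁻¹) * a * ((d : L) * (x * (d : L)⁻¹ * x⁻¹))⁻¹ := by rw [h5]; group
    · have e1 : Nat.card (Q.map (MulAut.conj y).toMonoidHom) = Nat.card Q :=
        (Nat.card_congr (Q.equivMapOfInjective _ (MulAut.conj y).injective).toEquiv).symm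
      have e2 : Nat.card (Q.map (MulAut.conj ((d : L) * (x * (d : L)⁻¹ * x⁻¹))).toMonoidHom) = Nat.card Q :=
        (Nat.card_congr (Q.equivMapOfInjective _ (MulAut.conj _).injective).toEquiv).symm
      rw [e1, e2]
  -- the two orbits agree
  have hrange : (Set.range fun a : K j => Q.map (MulAut.conj (a : L)).toMonoidHom) =
      Set.range fun a : D => Q.map (MulAut.conj (a : L)).toMonoidHom := by
    apply Set.Subset.antisymm
    · rintro _ ⟨y, rfl⟩
      obtain ⟨e, he, h1⟩ := key y y.2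
      exact ⟨⟨e, he⟩, h1.symm⟩
    · rintro _ ⟨e, rfl⟩
      let S : Sylow p (K j) := IsPGroup.toSylow (P := (P : Subgroup L).subgroupOf (K j)) P.isPGroup'.comap_subtype (hPj P)
      let S' : Sylow p (K j) := IsPGroup.toSylow (P := ((e : L) • P : Sylow p L).1.subgroupOf (K j))
        ((e : L) • P : Sylow p L).isPGroup'.comap_subtype (hPj _)
      obtain ⟨w, hw⟩ := MulAction.exists_smul_eq (K j) S S'
      refine ⟨w, ?_⟩
      have hle : ∀ a ∈ Q, (w : L) * a * (w : L)⁻¹ ∈ Q.map (MulAut.conj (e : L)).toMonoidHom := by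
        intro a ha
        have h1 : w * ⟨a, ha.2⟩ * w⁻¹ ∈ ((w • S : Sylow p (K j)) : Subgroup (K j)) := by
          rw [Sylow.coe_subgroup_smul]
          exact ⟨_, ha.1, rfl⟩
        rw [hw] at h1
        obtain ⟨v, hv, hv'⟩ : (w : L) * a * (w : L)⁻¹ ∈ MulAut.conj (e : L) • (P : Subgroup L) := h1
        refine ⟨v, ⟨hv, ?_⟩, hv'⟩
        have h2 : v = (e : L)⁻¹ * ((w : L) * a * (w : L)⁻¹) * (e : L)⁻¹⁻¹ := by
          rw [← hv']
          show v = (e : L)⁻¹ * ((e : L) * v * (e : L)⁻¹) * (e : L)⁻¹⁻¹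
          group
        have h3 := hK (e : L)⁻¹ j _ (mul_mem (mul_mem w.2 ha.2) (inv_mem w.2))
        rw [← h2, hYk _ (inv_mem (mem_inf.1 e.2).2)] at h3
        exact h3
      refine Subgroup.eq_of_le_of_card_ge ?_ ?_
      · rintro _ ⟨a, ha, rfl⟩
        exact hle a ha
      · have e1 : Nat.card (Q.map (MulAut.conj (w : L)).toMonoidHom) = Nat.card Q :=
          (Nat.card_congr (Q.equivMapOfInjective _ (MulAut.conj _).injective).toEquiv).symm
        have e2 : Nat.card (Q.map (MulAut.conj (e : L)).toMonoidHom) = Nat.card Q :=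
          (Nat.card_congr (Q.equivMapOfInjective _ (MulAut.conj _).injective).toEquiv).symm
        rw [e1, e2]
  have hcard : Nat.card (Sylow p (K j)) = (normalizer (Q : Set L)).relIndex D := by
    rw [← card_range_conj, ← hrange, card_range_conj]
    let S : Sylow p (K j) := IsPGroup.toSylow (P := (P : Subgroup L).subgroupOf (K j)) P.isPGroup'.comap_subtype (hPj P)
    rw [Sylow.card_eq_index_normalizer S, relIndex]
    congr 1
    have h1 : (S : Subgroup (K j)) = Q.subgroupOf (K j) := by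
      show (P : Subgroup L).subgroupOf (K j) = _
      rw [hQ, inf_subgroupOf_right]
    exact (congrArg (fun T : Subgroup (K j) => normalizer (T : Set (K j))) h1).trans
      (subgroupOf_normalizer_eq inf_le_right).symm
  have h1 := hb j
  rw [hcard] at h1
  exact hr (h1.trans ((relIndex_dvd_card _ D).trans (card_dvd_of_le inf_le_left)))

end Block

section Main

variable {G : Type u} [Group G] [Finite G] {p : ℕ} [hp : Fact p.Prime] {r : ℕ} [hr : Fact r.Prime]

theorem psub_conj {H : Subgroup G} (h : PSub p H) (g : G) : PSub p (H.map (MulAut.conj g).toMonoidHom) :=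
  h.map_equiv (MulAut.conj g)

theorem card_map_conj (H : Subgroup G) (g : G) :
    Nat.card (H.map (MulAut.conj g).toMonoidHom) = Nat.card H :=
  (Nat.card_congr (H.equivMapOfInjective _ (MulAut.conj g).injective).toEquiv).symm

theorem map_conj_conj_inv (S : Subgroup G) (g : G) :
    (S.map (MulAut.conj g⁻¹).toMonoidHom).map (MulAut.conj g).toMonoidHom = S := by
  ext x
  constructor
  · rintro ⟨_, ⟨y, hy, rfl⟩, rfl⟩
    show g * (g⁻¹ * y * g⁻¹⁻¹) * g⁻¹ ∈ S
    have h1 : g * (g⁻¹ * y * g⁻¹⁻¹) * g⁻¹ = y := by group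
    rw [h1]; exact hy
  · intro hx
    refine ⟨g⁻¹ * x * g⁻¹⁻¹, ⟨x, hx, rfl⟩, ?_⟩
    show g * (g⁻¹ * x * g⁻¹⁻¹) * g⁻¹ = x
    group

theorem relIndex_map_conj (S H : Subgroup G) (g : G) :
    (S.map (MulAut.conj g).toMonoidHom).relIndex H = S.relIndex (H.map (MulAut.conj g⁻¹).toMonoidHom) := by
  conv_lhs => rw [← map_conj_conj_inv H g]
  exact relIndex_map_map_of_injective _ _ (MulAut.conj g).injective

/-- **The principle with a class of subgroups.**  `S ≤ P`; for all `H'` conjugate to `H` the `p`-elements in `P ∩ H'` lie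
in `S`; `S` normalises the `r`-group `A`, `C_S(A) = 1`, `r` does not divide `|H|`.  Then `p` does not divide `|H|`. -/
theorem not_dvd_of_class {H : Subgroup G} (h : PSub p H) (hrH : ¬ r ∣ Nat.card H) (P : Sylow p G)
    {S : Subgroup G} (hSP : S ≤ P)
    (hS : ∀ g : G, (P : Subgroup G) ⊓ H.map (MulAut.conj g).toMonoidHom ≤ S)
    {A : Subgroup G} (hA : IsPGroup r A) (hn : ∀ s ∈ S, ∀ a ∈ A, s * a * s⁻¹ ∈ A)
    (hc : ∀ s ∈ S, (∀ a ∈ A, a * s = s * a) → s = 1) : ¬ p ∣ Nat.card H := by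
  have hcop : (Nat.card A).Coprime (Nat.card H) := by
    obtain ⟨k, hk⟩ := IsPGroup.iff_card.1 hA
    rw [hk]
    exact Nat.Coprime.pow_left _ ((Nat.Prime.coprime_iff_not_dvd hr.1).2 hrH)
  have hinf : ∀ g : G, (P : Subgroup G) ⊓ H.map (MulAut.conj g).toMonoidHom = S ⊓ H.map (MulAut.conj g).toMonoidHom :=
    fun g => le_antisymm (le_inf (hS g) inf_le_right) (inf_le_inf_right _ hSP)
  have hfull : ∀ g : G, ¬ p ∣ (S.map (MulAut.conj g).toMonoidHom).relIndex H := by
    intro g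
    rw [relIndex_map_conj, ← inf_relIndex_right, ← hinf, inf_relIndex_right]
    exact psub_conj h g⁻¹ P
  have h1 : S ⊓ H = ⊥ := by
    rw [eq_bot_iff]
    rintro x ⟨hxS, hxH⟩
    rw [mem_bot]
    exact hc x hxS fun a ha => commute_of_full (P.isPGroup'.to_le hSP) hn hcop (fun a _ => hfull a) hxS hxH ha
  have h2 := hfull 1
  have h3 : S.map (MulAut.conj (1 : G)).toMonoidHom = S := by
    have : (MulAut.conj (1 : G)).toMonoidHom = MonoidHom.id G := by
      ext x; simp
    rw [this, map_id]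
  rwa [h3, ← inf_relIndex_right, h1, relIndex_bot_left] at h2

/-- **Parabolic principle.** -/
theorem not_dvd_of_normalizes {H : Subgroup G} (h : PSub p H) (hrH : ¬ r ∣ Nat.card H) (P : Sylow p G)
    {A : Subgroup G} (hA : IsPGroup r A) (hn : ∀ s ∈ P, ∀ a ∈ A, s * a * s⁻¹ ∈ A)
    (hc : ∀ s ∈ P, (∀ a ∈ A, a * s = s * a) → s = 1) : ¬ p ∣ Nat.card H :=
  not_dvd_of_class h hrH P le_rfl (fun _ => inf_le_left) hA hn hc

/-- **Block principle.**  `L ≤ G` of index prime to `p` permutes the pairwise commuting subgroups `K i` of `L`, `r` divides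
the number of Sylow `p`-subgroups of `K i`, and a `p`-element of an `r'`-subgroup of `L` with `PSub p` fixing all blocks
centralises the blocks.  The `p`-elements of `L` centralising all blocks normalise the `r`-group `A`, none of them
centralises `A`.  Then `p` does not divide `|H|`. -/
theorem not_dvd_of_blocks {H : Subgroup G} (h : PSub p H) (hrH : ¬ r ∣ Nat.card H)
    {L : Subgroup G} (hL : ¬ p ∣ L.index) {ι : Type v} [MulAction L ι] (K : ι → Subgroup L)
    (hK : ∀ (g : L) (i : ι), ∀ x ∈ K i, g * x * g⁻¹ ∈ K (g • i))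
    (comm : ∀ i j : ι, i ≠ j → ∀ x ∈ K i, ∀ y ∈ K j, x * y = y * x)
    (htriv : ∀ i j : ι, ∀ x ∈ K i, x • j = j)
    (ha : ∀ H' : Subgroup L, PSub p H' → ¬ r ∣ Nat.card H' → ∀ x ∈ H', (∀ i : ι, x • i = i) →
      (∃ k : ℕ, x ^ p ^ k = 1) → ∀ i : ι, ∀ y ∈ K i, x * y = y * x)
    (hb : ∀ i : ι, r ∣ Nat.card (Sylow p (K i)))
    {A : Subgroup G} (hA : IsPGroup r A)
    (hn : ∀ s : L, (∃ k : ℕ, s ^ p ^ k = 1) → (∀ i : ι, ∀ y ∈ K i, s * y = y * s) →
      ∀ a ∈ A, (s : G) * a * (s : G)⁻¹ ∈ A)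
    (hc : ∀ s : L, (∃ k : ℕ, s ^ p ^ k = 1) → (∀ i : ι, ∀ y ∈ K i, s * y = y * s) →
      (∀ a ∈ A, a * (s : G) = (s : G) * a) → s = 1) : ¬ p ∣ Nat.card H := by
  obtain ⟨P0⟩ : Nonempty (Sylow p L) := inferInstance
  obtain ⟨P, hP⟩ := exists_sylow_subgroupOf_eq P0
  have hPL : (P : Subgroup G) ≤ L := by
    have h1 : Nat.card (P0 : Subgroup L) = Nat.card (P : Subgroup G) := by
      rw [P0.card_eq_multiplicity, P.card_eq_multiplicity]
      congr 1
      rw [← Subgroup.card_mul_index L, Nat.factorization_mul Nat.card_pos.ne'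
        Subgroup.index_ne_zero_of_finite, Finsupp.add_apply,
        Nat.factorization_eq_zero_of_not_dvd hL, add_zero]
    have h2 : Nat.card ((P : Subgroup G) ⊓ L : Subgroup G) = Nat.card (P : Subgroup G) := by
      rw [← h1, ← hP]
      have := Nat.card_congr (Subgroup.subgroupOfEquivOfLe
        (inf_le_right : (P : Subgroup G) ⊓ L ≤ L)).toEquiv
      rw [← this, Subgroup.inf_subgroupOf_right]
    exact inf_eq_left.mp (Subgroup.eq_of_le_of_card_ge inf_le_left h2.ge)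
  -- the subgroup `C` of the elements centralising the blocks
  let C : Subgroup L := centralizer (⋃ i : ι, (K i : Set L))
  have hC : ∀ s : L, s ∈ C ↔ ∀ i : ι, ∀ y ∈ K i, s * y = y * s := by
    intro s
    rw [mem_centralizer_iff]
    constructor
    · intro h i y hy
      exact (h y (Set.mem_iUnion.2 ⟨i, hy⟩)).symm
    · intro h y hy
      obtain ⟨i, hy⟩ := Set.mem_iUnion.1 hy
      exact (h i y hy).symm
  have hpow : ∀ s ∈ (P : Subgroup G), ∃ k : ℕ, s ^ p ^ k = 1 := by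
    intro s hs
    obtain ⟨k, hk⟩ := P.isPGroup' ⟨s, hs⟩
    exact ⟨k, congrArg Subtype.val hk⟩
  refine not_dvd_of_class h hrH P (S := (P : Subgroup G) ⊓ C.map L.subtype) inf_le_left ?_ hA ?_ ?_
  · rintro g x ⟨hxP, hxH⟩
    refine ⟨hxP, ⟨⟨x, hPL hxP⟩, ?_, rfl⟩⟩
    -- the conjugate of `H`, inside `L`
    have h1 := (psub_conj h g).inf_of_not_dvd_index hL
    have hr1 : ¬ r ∣ Nat.card ((H.map (MulAut.conj g).toMonoidHom ⊓ L).subgroupOf L) := by
      intro hd
      apply hrH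
      rw [← card_map_conj H g]
      refine hd.trans ?_
      rw [Nat.card_congr (subgroupOfEquivOfLe (inf_le_right : H.map (MulAut.conj g).toMonoidHom ⊓ L ≤ L)).toEquiv]
      exact card_dvd_of_le inf_le_left
    let PL : Sylow p L := IsPGroup.toSylow (P := (P : Subgroup G).subgroupOf L) P.isPGroup'.comap_subtype (by
      rw [hP]; exact P0.not_dvd_index)
    have hx' : (⟨x, hPL hxP⟩ : L) ∈ PL := hxP
    have hx'' : (⟨x, hPL hxP⟩ : L) ∈ (H.map (MulAut.conj g).toMonoidHom ⊓ L).subgroupOf L := ⟨hxH, hPL hxP⟩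
    have h2 := fun i => smul_eq_of_block h1 hr1 K hK comm htriv hb PL hx' hx'' i
    show _ ∈ C
    rw [hC]
    obtain ⟨k, hk⟩ := hpow x hxP
    exact ha _ h1 hr1 _ hx'' h2 ⟨k, Subtype.ext hk⟩
  · rintro s ⟨hs, ⟨s', hs', rfl⟩⟩ a ha'
    obtain ⟨k, hk⟩ := hpow _ hs
    exact hn s' ⟨k, Subtype.ext hk⟩ ((hC s').1 hs') a ha'
  · rintro s ⟨hs, ⟨s', hs', rfl⟩⟩ hcomm
    obtain ⟨k, hk⟩ := hpow _ hs
    have := hc s' ⟨k, Subtype.ext hk⟩ ((hC s').1 hs') hcomm
    rw [this]
    rfl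

end Main

end Cfsg.Agent.H838.KW
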