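import Cfsg.Agent.H146.KW.Iface
import Cfsg.Agent.H838.KW.Cross

/-!
# Interface for the cross characteristic rows of S4243

* `CrossNo r G` : no proper nonabelian simple subgroup of order prime to `r` satisfies the Sylow condition for all primes;
* `NoP p r G` : a subgroup of order prime to `r` with `PSub p` has order prime to `p`  (`p = 2` or `p = 5` suffices).
-/

set_option autoImplicit false

namespace Cfsg.Agent.H838.KW

open Cfsg.Agent.H146.KW

universe u

/-- The cross characteristic part of the row `NoKW G`. -/
def CrossNo (r : ℕ) (G : Type u) [Group G] : Prop :=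
  ∀ H : Subgroup G, IsSimpleGroup H → ¬ IsMulCommutative H → H ≠ ⊤ → PSubAll H → ¬ r ∣ Nat.card H → False

/-- A subgroup of order prime to `r` which satisfies the Sylow condition at `p` has order prime to `p`. -/
def NoP (p r : ℕ) (G : Type u) [Group G] : Prop :=
  ∀ H : Subgroup G, PSub p H → ¬ r ∣ Nat.card H → ¬ p ∣ Nat.card H

theorem NoP.of_equiv {p r : ℕ} [Fact p.Prime] {G G' : Type u} [Group G] [Finite G] [Group G'] [Finite G'] (e : G ≃* G')
    (h : NoP p r G') : NoP p r G := by
  intro H hK hr hp
  have e1 : Nat.card (H.map e.toMonoidHom) = Nat.card H :=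
    (Nat.card_congr (H.equivMapOfInjective e.toMonoidHom e.injective).toEquiv).symm
  exact h (H.map e.toMonoidHom) (hK.map_equiv e) (by rwa [e1]) (by rwa [e1])

end Cfsg.Agent.H838.KW
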