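import Cfsg.Agent.H838.KW.CrossDef

/-!
# The block principle in a central extension

* `noP_of_central` : if the `p`-elements of every `r'`-subgroup with `PSub p` of `Gh` lie in the central subgroup `Z`, then
  `NoP p r (Gh ⧸ Z)`;
* `mem_of_blocks` : the block principle of `Cross` with "`∈ Z`" instead of "`= 1`".
-/

set_option autoImplicit false
set_option linter.unusedSectionVars false

open Subgroup

namespace Cfsg.Agent.H838.KW

open Cfsg.Agent.H146.KW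

universe u v

variable {G : Type u} [Group G] [Finite G] {p : ℕ} [hp : Fact p.Prime] {r : ℕ} [hr : Fact r.Prime]

/-- Passing from `Gh` to `Gh ⧸ Z`. -/
theorem noP_of_central {Z : Subgroup G} [Z.Normal] (hZr : ¬ r ∣ Nat.card Z)
    (h : ∀ H : Subgroup G, PSub p H → ¬ r ∣ Nat.card H → ∀ x ∈ H, (∃ k : ℕ, x ^ p ^ k = 1) → x ∈ Z) :
    NoP p r (G ⧸ Z) := by
  intro H hH hrH hpH
  have h1 : PSub p (H.comap (QuotientGroup.mk' Z)) := hH.comap (QuotientGroup.mk'_surjective Z)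
  have h2 : ¬ r ∣ Nat.card (H.comap (QuotientGroup.mk' Z)) := by
    have h3 : Nat.card (H.comap (QuotientGroup.mk' Z)) = Nat.card H * Nat.card Z := by
      have h4 := relIndex_ker (f := QuotientGroup.mk' Z) (H.comap (QuotientGroup.mk' Z))
      rw [map_comap_eq_self_of_surjective (QuotientGroup.mk'_surjective Z), QuotientGroup.ker_mk'] at h4
      have h5 : Z ≤ H.comap (QuotientGroup.mk' Z) := by
        intro z hz
        rw [mem_comap]
        have : QuotientGroup.mk' Z z = 1 := (QuotientGroup.eq_one_iff z).2 hz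
        rw [this]; exact one_mem _
      have h6 := card_mul_index (Z.subgroupOf (H.comap (QuotientGroup.mk' Z)))
      rw [Nat.card_congr (subgroupOfEquivOfLe h5).toEquiv] at h6
      rw [← h6, ← h4, mul_comm]; rfl
    rw [h3]
    intro hd
    rcases (hr.1.dvd_mul).1 hd with hd | hd
    · exact hrH hd
    · exact hZr hd
  obtain ⟨y, hy⟩ := exists_prime_orderOf_dvd_card' (G := H) p hpH
  obtain ⟨x, hx⟩ := QuotientGroup.mk'_surjective Z (y : G ⧸ Z)
  have hxH : x ∈ H.comap (QuotientGroup.mk' Z) := by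
    rw [mem_comap, hx]; exact y.2
  -- the `p`-part of `x`
  obtain ⟨k, m, hm, hkm⟩ : ∃ k m : ℕ, ¬ p ∣ m ∧ orderOf x = p ^ k * m :=
    Nat.exists_eq_pow_mul_and_not_dvd (orderOf_pos x).ne' p hp.1.ne_one
  have h3 : x ^ m ∈ Z := by
    refine h _ h1 h2 _ (pow_mem hxH m) ⟨k, ?_⟩
    rw [← pow_mul, mul_comm m, ← hkm, pow_orderOf_eq_one]
  have h4 : (y : G ⧸ Z) ^ m = 1 := by
    rw [← hx, ← map_pow]
    exact (QuotientGroup.eq_one_iff _).2 h3
  have h5 : orderOf (y : G ⧸ Z) ∣ m := orderOf_dvd_of_pow_eq_one h4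
  rw [orderOf_coe, hy] at h5
  exact hm h5

/-- `not_dvd_of_class` relative to a subgroup `Z`. -/
theorem mem_of_class {H : Subgroup G} (h : PSub p H) (hrH : ¬ r ∣ Nat.card H) (P : Sylow p G)
    {S : Subgroup G} (hSP : S ≤ P)
    (hS : ∀ g : G, (P : Subgroup G) ⊓ H.map (MulAut.conj g).toMonoidHom ≤ S)
    {A : Subgroup G} (hA : IsPGroup r A) (hn : ∀ s ∈ S, ∀ a ∈ A, s * a * s⁻¹ ∈ A)
    {Z : Subgroup G} [hZ : Z.Normal]
    (hc : ∀ s ∈ S, (∀ a ∈ A, a * s = s * a) → s ∈ Z) {x : G} (hx : x ∈ H) (hxp : ∃ k : ℕ, x ^ p ^ k = 1) : x ∈ Z := by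
  have hcop : (Nat.card A).Coprime (Nat.card H) := by
    obtain ⟨k, hk⟩ := IsPGroup.iff_card.1 hA
    rw [hk]
    exact Nat.Coprime.pow_left _ ((Nat.Prime.coprime_iff_not_dvd hr.1).2 hrH)
  have hinf : ∀ g : G, (P : Subgroup G) ⊓ H.map (MulAut.conj g).toMonoidHom = S ⊓ H.map (MulAut.conj g).toMonoidHom :=
    fun g => le_antisymm (le_inf (hS g) inf_le_right) (inf_le_inf_right _ hSP)
  have hfull : ∀ g : G, ¬ p ∣ (S.map (MulAut.conj g).toMonoidHom).relIndex H := by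
    intro g
    rw [relIndex_map_conj, ← inf_relIndex_right, ← hinf, inf_relIndex_right]
    exact psub_conj h g⁻¹ P
  -- a conjugate of `x` under `H` lies in `S`
  have hPH : ∀ y ∈ H, y ∈ (P : Subgroup G) → y ∈ Z := by
    intro y hyH hyP
    have h1 : y ∈ S := by
      have h2 := hS 1
      have h3 : H.map (MulAut.conj (1 : G)).toMonoidHom = H := by
        have : (MulAut.conj (1 : G)).toMonoidHom = MonoidHom.id G := by
          ext x; simp
        rw [this, map_id]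
      rw [h3] at h2
      exact h2 ⟨hyP, hyH⟩
    exact hc y h1 fun a ha => commute_of_full (P.isPGroup'.to_le hSP) hn hcop (fun a _ => hfull a) h1 hyH ha
  -- Sylow in `H`
  obtain ⟨k, hk⟩ := hxp
  have hzp : IsPGroup p (zpowers (⟨x, hx⟩ : H)) := by
    rintro ⟨_, n, rfl⟩
    refine ⟨k, Subtype.ext ?_⟩
    show ((⟨x, hx⟩ : H) ^ n) ^ p ^ k = 1
    rw [← zpow_natCast, zpow_comm, zpow_natCast]
    have h1 : (⟨x, hx⟩ : H) ^ p ^ k = 1 := Subtype.ext hk
    rw [h1, one_zpow]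
  obtain ⟨T, hT⟩ := hzp.exists_le_sylow
  obtain ⟨c, hc'⟩ := MulAction.exists_smul_eq H T (h.syl P)
  have h1 : (⟨x, hx⟩ : H) ∈ (T : Subgroup H) := hT (mem_zpowers _)
  have h2 : c * ⟨x, hx⟩ * c⁻¹ ∈ ((c • T : Sylow p H) : Subgroup H) := by
    rw [Sylow.coe_subgroup_smul]
    exact ⟨_, h1, rfl⟩
  rw [hc', h.coe_syl] at h2
  have h3 : (c : G) * x * (c : G)⁻¹ ∈ Z := hPH _ (mul_mem (mul_mem c.2 hx) (inv_mem c.2)) h2
  have h4 := hZ.conj_mem _ h3 (c : G)⁻¹
  have h5 : (c : G)⁻¹ * ((c : G) * x * (c : G)⁻¹) * (c : G)⁻¹⁻¹ = x := by group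
  rwa [h5] at h4

/-- **Parabolic principle** relative to `Z`. -/
theorem mem_of_normalizes {H : Subgroup G} (h : PSub p H) (hrH : ¬ r ∣ Nat.card H) (P : Sylow p G)
    {A : Subgroup G} (hA : IsPGroup r A) (hn : ∀ s ∈ P, ∀ a ∈ A, s * a * s⁻¹ ∈ A) {Z : Subgroup G} [Z.Normal]
    (hc : ∀ s ∈ P, (∀ a ∈ A, a * s = s * a) → s ∈ Z) {x : G} (hx : x ∈ H) (hxp : ∃ k : ℕ, x ^ p ^ k = 1) : x ∈ Z :=
  mem_of_class h hrH P le_rfl (fun _ => inf_le_left) hA hn hc hx hxp

/-- **Block principle** relative to a normal subgroup `Z` (think of `Z = Z(G)`).  `L ≤ G` of index prime to `p` permutes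
the pairwise commuting subgroups `K i` of `L`, `r` divides the number of Sylow `p`-subgroups of `K i`, and a `p`-element
of an `r'`-subgroup of `L` with `PSub p` fixing all blocks centralises the blocks.  The `p`-elements of `L` centralising
all blocks normalise the `r`-group `A`, and lie in `Z` if they centralise `A`. -/
theorem mem_of_blocks {H : Subgroup G} (h : PSub p H) (hrH : ¬ r ∣ Nat.card H)
    {L : Subgroup G} (hL : ¬ p ∣ L.index) {ι : Type v} [MulAction L ι] (K : ι → Subgroup L)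
    (hK : ∀ (g : L) (i : ι), ∀ x ∈ K i, g * x * g⁻¹ ∈ K (g • i))
    (comm : ∀ i j : ι, i ≠ j → ∀ x ∈ K i, ∀ y ∈ K j, x * y = y * x)
    (htriv : ∀ i j : ι, ∀ x ∈ K i, x • j = j)
    (ha : ∀ H' : Subgroup L, PSub p H' → ¬ r ∣ Nat.card H' → ∀ x ∈ H', (∀ i : ι, x • i = i) →
      (∃ k : ℕ, x ^ p ^ k = 1) → ∀ i : ι, ∀ y ∈ K i, x * y = y * x)
    (hb : ∀ i : ι, r ∣ Nat.card (Sylow p (K i)))
    {A : Subgroup G} (hA : IsPGroup r A)
    (hn : ∀ s : L, (∃ k : ℕ, s ^ p ^ k = 1) → (∀ i : ι, ∀ y ∈ K i, s * y = y * s) →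
      ∀ a ∈ A, (s : G) * a * (s : G)⁻¹ ∈ A)
    {Z : Subgroup G} [Z.Normal]
    (hc : ∀ s : L, (∃ k : ℕ, s ^ p ^ k = 1) → (∀ i : ι, ∀ y ∈ K i, s * y = y * s) →
      (∀ a ∈ A, a * (s : G) = (s : G) * a) → (s : G) ∈ Z) {x : G} (hx : x ∈ H) (hxp : ∃ k : ℕ, x ^ p ^ k = 1) :
    x ∈ Z := by
  obtain ⟨P0⟩ : Nonempty (Sylow p L) := inferInstance
  obtain ⟨P, hP⟩ := exists_sylow_subgroupOf_eq P0
  have hPL : (P : Subgroup G) ≤ L := by
    have h1 : Nat.card (P0 : Subgroup L) = Nat.card (P : Subgroup G) := by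
      rw [P0.card_eq_multiplicity, P.card_eq_multiplicity]
      congr 1
      rw [← Subgroup.card_mul_index L, Nat.factorization_mul Nat.card_pos.ne'
        Subgroup.index_ne_zero_of_finite, Finsupp.add_apply,
        Nat.factorization_eq_zero_of_not_dvd hL, add_zero]
    have h2 : Nat.card ((P : Subgroup G) ⊓ L : Subgroup G) = Nat.card (P : Subgroup G) := by
      rw [← h1, ← hP]
      have := Nat.card_congr (Subgroup.subgroupOfEquivOfLe
        (inf_le_right : (P : Subgroup G) ⊓ L ≤ L)).toEquiv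
      rw [← this, Subgroup.inf_subgroupOf_right]
    exact inf_eq_left.mp (Subgroup.eq_of_le_of_card_ge inf_le_left h2.ge)
  let C : Subgroup L := centralizer (⋃ i : ι, (K i : Set L))
  have hC : ∀ s : L, s ∈ C ↔ ∀ i : ι, ∀ y ∈ K i, s * y = y * s := by
    intro s
    rw [mem_centralizer_iff]
    constructor
    · intro h i y hy
      exact (h y (Set.mem_iUnion.2 ⟨i, hy⟩)).symm
    · intro h y hy
      obtain ⟨i, hy⟩ := Set.mem_iUnion.1 hy
      exact (h i y hy).symm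
  have hpow : ∀ s ∈ (P : Subgroup G), ∃ k : ℕ, s ^ p ^ k = 1 := by
    intro s hs
    obtain ⟨k, hk⟩ := P.isPGroup' ⟨s, hs⟩
    exact ⟨k, congrArg Subtype.val hk⟩
  refine mem_of_class h hrH P (S := (P : Subgroup G) ⊓ C.map L.subtype) inf_le_left ?_ hA ?_ ?_ hx hxp
  · rintro g x ⟨hxP, hxH⟩
    refine ⟨hxP, ⟨⟨x, hPL hxP⟩, ?_, rfl⟩⟩
    have h1 := (psub_conj h g).inf_of_not_dvd_index hL
    have hr1 : ¬ r ∣ Nat.card ((H.map (MulAut.conj g).toMonoidHom ⊓ L).subgroupOf L) := by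
      intro hd
      apply hrH
      rw [← card_map_conj H g]
      refine hd.trans ?_
      rw [Nat.card_congr (subgroupOfEquivOfLe (inf_le_right : H.map (MulAut.conj g).toMonoidHom ⊓ L ≤ L)).toEquiv]
      exact card_dvd_of_le inf_le_left
    let PL : Sylow p L := IsPGroup.toSylow (P := (P : Subgroup G).subgroupOf L) P.isPGroup'.comap_subtype (by
      rw [hP]; exact P0.not_dvd_index)
    have hx' : (⟨x, hPL hxP⟩ : L) ∈ PL := hxP
    have hx'' : (⟨x, hPL hxP⟩ : L) ∈ (H.map (MulAut.conj g).toMonoidHom ⊓ L).subgroupOf L := ⟨hxH, hPL hxP⟩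
    have h2 := fun i => smul_eq_of_block h1 hr1 K hK comm htriv hb PL hx' hx'' i
    show _ ∈ C
    rw [hC]
    obtain ⟨k, hk⟩ := hpow x hxP
    exact ha _ h1 hr1 _ hx'' h2 ⟨k, Subtype.ext hk⟩
  · rintro s ⟨hs, ⟨s', hs', rfl⟩⟩ a ha'
    obtain ⟨k, hk⟩ := hpow _ hs
    exact hn s' ⟨k, Subtype.ext hk⟩ ((hC s').1 hs') a ha'
  · rintro s ⟨hs, ⟨s', hs', rfl⟩⟩ hcomm
    obtain ⟨k, hk⟩ := hpow _ hs
    exact hc s' ⟨k, Subtype.ext hk⟩ ((hC s').1 hs') hcomm

end Cfsg.Agent.H838.KW
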