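import Cfsg.Agent.H838.KW.Cent

/-!
# The groups `SL_2(q) ≤ Z ≤ GL_2(E)` for the blocks
-/

set_option autoImplicit false

namespace Cfsg.Agent.H838.KW

open Matrix

/-- the determinant one part of a subgroup of `GL_2(E)` -/
def slPart {E : Type*} [Field E] (Z : Subgroup (GL (Fin 2) E)) : Subgroup (GL (Fin 2) E) :=
  Z ⊓ (Matrix.GeneralLinearGroup.det (n := Fin 2) (R := E)).ker

/-- `Z ≤ GL_2(E)` is such that `Z ∩ SL_2(E)` looks like `SL_2(q)`, `q > 3` a power of `r`. -/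
structure TwoGp (r q : ℕ) {E : Type*} [Field E] (Z : Subgroup (GL (Fin 2) E)) : Prop where
  lt : 3 < q
  pow : ∃ k : ℕ, q = r ^ k
  neg : -1 ∈ Z
  card : Nat.card (slPart Z) = q * (q ^ 2 - 1)
  nonab : ∃ B : Subgroup (GL (Fin 2) E), B ≤ slPart Z ∧ IsPGroup 2 B ∧ ∃ a ∈ B, ∃ b ∈ B, a * b ≠ b * a

end Cfsg.Agent.H838.KW
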